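import Cfsg.Agent.H758.EPX.TK_m3
import Cfsg.Agent.H59.EP.UBGen
import Cfsg.Agent.H12.KSch
import Cfsg.Agent.H889.Enum.Aut_m3
import Cfsg.Agent.H357.EP.Signs_m3
import Cfsg.Agent.OrdDiv.Table
import Cfsg.Agent.H902.DomLU_m3
import Cfsg.Agent.H284.SepOrd
import Cfsg.Agent.H603.SporElim
import Cfsg.Agent.H149.Sp.Quot
import Cfsg.Agent.H168.Rad
import Cfsg.Agent.Lib.ListFast
import Cfsg.Agent.H783.EX.Rank
import Cfsg.Prelude.Def_Classical
import Cfsg.Agent.GH.L2One.Inst_m3
import Cfsg.Agent.GH.TOne.TwoCfg_m3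
import Cfsg.Agent.H348.Inv.J2
import Cfsg.Agent.H446.SmallCross
import Cfsg.Agent.Prune
set_option linter.all false

section
prune_inst 0x7f00000000000000000000000000000000000000000000000000000000000000000000000000000000000000000000000000000000000000000000000000000000000000000000000000000000000000003fffffffffffffffffffffffffffbeffbdffffffff

-- part: H746/EK/Bound
section
set_option linter.all false
open scoped Cfsg.Agent.FastGrp

/-!
# S5745, section 4: the bound (TK) with the crude count of the `LocK` subgroups (helper746)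
-/

set_option autoImplicit false

namespace Cfsg.Agent.H746.EK

open Subgroup Cfsg.Agent.H284 Cfsg.Agent.H209.EPX Cfsg.Agent.H59.EP Cfsg.Agent.H273.EPU

theorem mem_normalizer_of {L : Type*} [Group L] [Finite L] {X : Subgroup L} {b : L} (h : ∀ k ∈ X, b * k * b⁻¹ ∈ X) :
    b ∈ normalizer (X : Set L) := by
  have h1 : X.map (MulAut.conj b).toMonoidHom = X := by
    apply Subgroup.eq_of_le_of_card_ge
    · rintro _ ⟨k, hk, rfl⟩
      exact h k hk
    · exact (Nat.card_congr (X.equivMapOfInjective _ (MulAut.conj b).injective).toEquiv).le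
  rw [mem_normalizer_iff]
  intro k
  refine ⟨h k, fun hk => ?_⟩
  have hk' : b * k * b⁻¹ ∈ X := hk
  rw [← h1] at hk'
  obtain ⟨y, hy, e⟩ := hk'
  have e' : b * y * b⁻¹ = b * k * b⁻¹ := e
  have : y = k := mul_left_cancel (mul_right_cancel e')
  rwa [← this]

/-- the crude count of the `LocK` subgroups -/
theorem locK_le (hg : TwoGen.{0}) {T : Type} [Group T] [Finite T] (hs : IsSimpleGroup T)
    (hna : ∃ a b : T, a * b ≠ b * a) (h60 : Nat.card T < 60 ^ 61) (hok : facOk (Nat.card T) = true) :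
    (LocK T \ {⊤}).ncard ≤ Lc (Nat.card T) := by
  have h1 := Cfsg.Agent.H59.EP.ncard_le_gen hg h60 (𝓜 := LocK T \ {⊤}) (c := Nat.card T / 6) ?_ ?_ ?_
  · refine h1.trans (le_of_eq ?_)
    have h2 : ∑ s ∈ (Nat.card T).primeFactors, gal s ((Nat.card T).factorization s) = gs (Nat.card T) := gs_eq hok
    rw [h2, Lc]
  · rintro K ⟨hK, _⟩
    have h2 := Cfsg.Agent.H758.EPX.locK_card hs hna hK
    rw [Nat.le_div_iff_mul_le (by norm_num)]
    calc K.index * 6 ≤ K.index * Nat.card K := Nat.mul_le_mul_left _ h2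
      _ = Nat.card T := K.index_mul_card
  · rintro K ⟨hK, _⟩
    exact hK.1
  · rintro K ⟨hK, _⟩ Y hY hY0 b hb
    exact hK.2 Y hY hY0 (mem_normalizer_of hb)

variable {G : Type} [Group G] {H N : Subgroup G} {T : Type} [Group T] {k : ℕ} {e : N ≃* (Fin k → T)}

theorem dk_le (t k : ℕ) (hk : k ≤ 5) : t ^ k ≤ 6 ^ k * Dk t k := by
  rw [Dk, if_pos hk]
  refine le_trans ?_ (Nat.mul_le_mul_left _ (le_max_left _ _))
  have h1 : 0 < 6 ^ k := by positivity
  have := Nat.lt_mul_div_succ (t ^ k) h1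
  exact this.le

/-- **(TK)** for `k ≤ 5` -/
theorem bound_five [Finite G] (hg : TwoGen.{0}) (h : EPS H N e) (hsch : Cfsg.Agent.Schreier.Basic.Sch T) (hk : k ≤ 5)
    {a : ℕ} (ha : Nat.card (MulAut T) ≤ a) (h60 : Nat.card T < 60 ^ 61) (hok : facOk (Nat.card T) = true) :
    Nat.card G ≤ Bk (Nat.card T) a k := by
  have hfin : Finite T := Finite.of_injective _ (Cfsg.Agent.H758.EPX.inj_injective e ⟨0, h.pos⟩)
  have h1 := Cfsg.Agent.H758.EPX.EPS.tk_five h hsch hk (locK_le hg h.simple h.nab h60 hok) (dk_le (Nat.card T) k hk) (by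
    rw [Dk, if_pos hk]
    exact le_max_right _ _)
  refine h1.trans ?_
  rw [Bk]
  refine Nat.mul_le_mul (Nat.add_le_add_left (Nat.mul_le_mul_right _ (Nat.add_le_add_left ?_ _)) 1) ?_
  · rw [Ik]
    exact le_trans (Nat.pow_le_pow_left (Nat.mul_le_mul_left _ ha) _) (Nat.le_add_right _ _)
  · exact (Cfsg.Agent.H758.EPX.EPS.card_H_le h).trans (Nat.mul_le_mul_right _ (Nat.pow_le_pow_left ha _))

/-- `|T| ^ k` divides `|G|` -/
theorem pow_dvd [Finite G] (h : EPS H N e) : Nat.card T ^ k ∣ Nat.card G := by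
  have hfin : Finite T := Finite.of_injective _ (Cfsg.Agent.H758.EPX.inj_injective e ⟨0, h.pos⟩)
  rw [← Cfsg.Agent.H758.EPX.card_N e]
  exact Subgroup.card_subgroup_dvd_card N

end Cfsg.Agent.H746.EK

private theorem dce_23d498784004 : _root_.True := by
  try have : _root_.True := by simp only [_root_.Cfsg.Agent.H746.EK.Lc.eq_1]
  try have : _root_.True := by simp only [_root_.Cfsg.Agent.H746.EK.Ik.eq_1]
  try have : _root_.True := by simp only [_root_.Cfsg.Agent.H746.EK.Dk.eq_1]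
  try have : _root_.True := by simp only [_root_.Cfsg.Agent.H746.EK.Bk.eq_1]
  exact _root_.True.intro
end

-- part: H354/EPX/Glue
section
set_option linter.all false
open scoped Cfsg.Agent.FastGrp

/-!
# S5745, layer ENUM: the glue of the cross cells (helper354)

`cross_gen` : `Cross p G` for a model `G` of the family `Y`, from the kernel tables of `H252.EN` and the surviving rows
(`NoS G g` : no `EPS` with a socle named `g`).
-/

set_option autoImplicit false

namespace Cfsg.Agent.H354.EPX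

open Cfsg Cfsg.Agent.OrdDiv Cfsg.Agent.H902 Cfsg.Agent.H902.Names Cfsg.Agent.H290.ElReg
open Cfsg.Agent.H209.EPX Cfsg.Agent.H542.EPX Cfsg.Agent.H889.Enum Cfsg.Agent.H252.EN

/-- `|Aut T|` for the nonsporadic simple groups -/
structure AutData : Prop where
  lie : ∀ (g : Grp) (X : Art.Sh) (l a : ℕ) (T : Type) [Group T] [Finite T] [IsSimpleGroup T],
    (¬ ∀ a b : T, a * b = b * a) → IsLie g X l a →
    OrdDiv.Real g T → Art.Real X l a (Nat.card T) → Nat.card (MulAut T) ∣ ouN X l a * Nat.card T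
  alt : ∀ (n : ℕ) (T : Type) [Group T] [Finite T] [IsSimpleGroup T], (¬ ∀ a b : T, a * b = b * a) → 5 ≤ n →
    Nonempty (T ≃* alternatingGroup (Fin n)) → Nat.card (MulAut T) ∣ autA n
  tits : ∀ (T : Type) [Group T] [Finite T] [IsSimpleGroup T], (¬ ∀ a b : T, a * b = b * a) → Lie.IsoTits T →
    Nat.card (MulAut T) ∣ 35942400

/-- the bound of the index -/
def UbE : Prop := ∀ (G : Type) [Group G] [Finite G] [IsSimpleGroup G] (H N : Subgroup G) (T : Type) [Group T]
  [Finite T] (e : N ≃* (Fin 1 → T)) (B : ℕ), EPS H N e → Nat.card (MulAut T) ∣ B → Ub B (Nat.card G)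

/-- the socle is simple nonabelian -/
theorem nab_of {G : Type} [Group G] {H N : Subgroup G} {T : Type} [Group T] {k : ℕ} {e : N ≃* (Fin k → T)}
    (h : EPS H N e) : ¬ ∀ a b : T, a * b = b * a := by
  obtain ⟨a, b, hab⟩ := h.nab
  exact fun hc => hab (hc a b)

/-- no `EPS` in `G` with a socle named `g` -/
def NoS (G : Type) [Group G] (g : Grp) : Prop :=
  ∀ (H N : Subgroup G) (T : Type) [Group T] (e : N ≃* (Fin 1 → T)), EPS H N e → OrdDiv.Real g T → False

/-- no `EPS` in `G` with a socle the Tits group -/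
def NoTits (G : Type) [Group G] : Prop :=
  ∀ (H N : Subgroup G) (T : Type) [Group T] (e : N ≃* (Fin 1 → T)), EPS H N e → Lie.IsoTits T → False

theorem cross_gen (hK : AllK) (A : AutData) (U : UbE) {D p f : ℕ} [Fact p.Prime] (hD : D ≤ 248) {F : Type} [Field F]
    [CharP F p] {G : Type} [Group G] [Finite G] [IsSimpleGroup G] (hG : Fth D F G) {Y : Art.Sh} (hY : Y ∈ Ys)
    (hR : Art.Real Y p f (Nat.card G)) {al : List ((Art.Sh × ℕ × ℕ) × ℕ)} (hc : chk Y D al = true) {m : ℕ}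
    {alA : List (ℕ × ℕ)} (hcA : chkA Y m alA = true)
    (hm : ∀ (T : Type) [Group T] (n : ℕ) (i : T →* G), Function.Injective i →
      Nonempty (T ≃* alternatingGroup (Fin n)) → n ≤ m)
    {alT : List (Unit × ℕ)} (hcT : chkTi Y alT = true)
    (rows : ∀ (X : Art.Sh) (l a : ℕ), ((X, (l, a)), p ^ f) ∈ al → l ≠ p → l.Prime → ∀ g, IsLie g X l a → NoS G g)
    (rowsA : ∀ n, (n, p ^ f) ∈ alA → NoS G (.alt n)) (rowsT : ((), p ^ f) ∈ alT → NoTits G) : Cross p G := by
  refine cross_base hK hD hG ?_ ?_ ?_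
  · intro H N T _ _ e h n hn he _
    have : IsSimpleGroup T := h.simple
    have hd : Nat.card T ∣ Nat.card G := Subgroup.card_dvd_of_injective (emb e) (emb_injective e)
    have ht : 2 * Nat.card T = n.factorial := by
      obtain ⟨i⟩ := he
      rw [Nat.card_congr i.toEquiv, Nat.card_eq_fintype_card]
      have : Nontrivial (Fin n) := Fin.nontrivial_iff_two_le.2 (by omega)
      rw [two_mul_card_alternatingGroup, Fintype.card_perm, Fintype.card_fin]
    have h1 := chkA_spec hY hcA hn (hm T n (emb e) (emb_injective e) he) ht hR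
      (U G H N T e _ h (A.alt n T (nab_of h) hn he)) hd
    exact rowsA n h1 H N T e h he
  · intro H N T _ _ e h hT
    have : IsSimpleGroup T := h.simple
    have hd : Nat.card T ∣ Nat.card G := Subgroup.card_dvd_of_injective (emb e) (emb_injective e)
    have ht : Nat.card T = 17971200 := table_spor T (.tits, 17971200) (by decide) hT
    rw [ht] at hd
    refine rowsT (chkT_spec hY hcT hR ?_ (U G H N T e _ h (A.tits T (nab_of h) hT)) hd) H N T e h hT
    rw [Nat.mod_zero]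
    exact pow_ne_zero _ (Fact.out : p.Prime).ne_zero
  · intro H N T _ _ e h hT
    obtain ⟨g, X, l, a, hg, hRT, hA, hr, hlp⟩ := hT
    have : IsSimpleGroup T := h.simple
    have hd : Nat.card T ∣ Nat.card G := Subgroup.card_dvd_of_injective (emb e) (emb_injective e)
    have h1 := chk_spec hY hc hA hr hR hlp (U G H N T e _ h (A.lie g X l a T (nab_of h) hg hRT hA)) hd
    exact rows X l a h1 hlp hA.hp g hg H N T e h hRT

end Cfsg.Agent.H354.EPX
end

-- part: H894/EK/Real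
section
set_option linter.all false
open scoped Cfsg.Agent.FastGrp

/-!
# The orders of the exceptional models in the form `Art.Real` (helper894)
-/

set_option autoImplicit false

namespace Cfsg.Agent.H894.EK

open Cfsg Cfsg.Lie Cfsg.Agent.OrdDiv Cfsg.Agent.H902

theorem card_pow (F : Type) [Field F] [Fintype F] (p : ℕ) [Fact p.Prime] [CharP F p] :
    ∃ n : ℕ, 1 ≤ n ∧ Fintype.card F = p ^ n := by
  obtain ⟨n, -, h⟩ := FiniteField.card F p
  exact ⟨n, n.2, h⟩

variable (p : ℕ) [hp : Fact p.Prime]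

section chev

variable (F : Type) [Field F] [Fintype F] [CharP F p]

theorem real_g2 (h3 : 3 ≤ Fintype.card F) :
    ∃ f, Fintype.card F = p ^ f ∧ Art.Real .G2 p f (Nat.card ↥(chevG2.group F)) := by
  obtain ⟨f, hf, hF⟩ := card_pow F p
  refine ⟨f, hF, ⟨hp.out, hf, by rw [hF] at h3; exact h3, ?_⟩⟩
  rw [(table.{0}).g2 F, hF]
  change 1 * _ = (p ^ f) ^ 6 * (_ * _)
  ring

theorem real_f4 : ∃ f, Fintype.card F = p ^ f ∧ Art.Real .F4 p f (Nat.card ↥(chevF4.group F)) := by
  obtain ⟨f, hf, hF⟩ := card_pow F p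
  refine ⟨f, hF, ⟨hp.out, hf, trivial, ?_⟩⟩
  rw [(table.{0}).f4 F _ hF]
  change 1 * _ = (p ^ f) ^ 24 * (_ * _ * _ * _)
  ring

theorem real_e6 : ∃ f, Fintype.card F = p ^ f ∧ Art.Real .E6 p f (Nat.card ↥(chevE6.group F)) := by
  obtain ⟨f, hf, hF⟩ := card_pow F p
  refine ⟨f, hF, ⟨hp.out, hf, trivial, ?_⟩⟩
  change Nat.gcd 3 (p ^ f - 1) * _ = (p ^ f) ^ 36 * (_ * _ * _ * _ * _ * _)
  rw [(table.{0}).e6 F _ hF]
  ring

theorem real_e7 : ∃ f, Fintype.card F = p ^ f ∧ Art.Real .E7 p f (Nat.card ↥(chevE7.group F)) := by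
  obtain ⟨f, hf, hF⟩ := card_pow F p
  refine ⟨f, hF, ⟨hp.out, hf, trivial, ?_⟩⟩
  change Nat.gcd 2 (p ^ f - 1) * _ = (p ^ f) ^ 63 * (_ * _ * _ * _ * _ * _ * _)
  rw [(table.{0}).e7 F _ hF]
  ring

theorem real_e8 : ∃ f, Fintype.card F = p ^ f ∧ Art.Real .E8 p f (Nat.card ↥(chevE8.group F)) := by
  obtain ⟨f, hf, hF⟩ := card_pow F p
  refine ⟨f, hF, ⟨hp.out, hf, trivial, ?_⟩⟩
  rw [(table.{0}).e8 F _ hF]
  change 1 * _ = (p ^ f) ^ 120 * (_ * _ * _ * _ * _ * _ * _ * _)
  ring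

end chev

section twisted

variable (K : Type) [Field K] [Fintype K] [CharP K p] {q : ℕ}

theorem real_te6 (hK : Fintype.card K = q ^ 2) :
    ∃ f, q = p ^ f ∧ Art.Real .TE6 p f (Nat.card ↥(twistedE6 K q)) := by
  obtain ⟨f, hf, rfl⟩ := H284.SepOrd.root_pow hp.out (by norm_num) (card_pow K p) hK
  refine ⟨f, rfl, ⟨hp.out, hf, trivial, ?_⟩⟩
  change Nat.gcd 3 (p ^ f + 1) * _ = (p ^ f) ^ 36 * (_ * _ * _ * _ * _ * _)
  rw [(table.{0}).te6 K _ (hp.out.isPrimePow.pow (by omega)) hK]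
  ring

theorem real_td4 (hK : Fintype.card K = q ^ 3) :
    ∃ f, q = p ^ f ∧ Art.Real .TD4 p f (Nat.card ↥(twistedD4 K q)) := by
  obtain ⟨f, hf, rfl⟩ := H284.SepOrd.root_pow hp.out (by norm_num) (card_pow K p) hK
  refine ⟨f, rfl, ⟨hp.out, hf, trivial, ?_⟩⟩
  rw [(table.{0}).td4 K _ (hp.out.isPrimePow.pow (by omega)) hK]
  change 1 * _ = (p ^ f) ^ 12 * (_ * _ * _)
  ring

end twisted

end Cfsg.Agent.H894.EK
end

-- part: H894/EK/Gen
section
set_option linter.all false
open scoped Cfsg.Agent.FastGrp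

-- part: H631/EK/Spor
section
/-!
# S5745, `CrossK` (`k ≥ 2`): sporadic `T` in `³D₄(q)`, `G₂(q)`, `q` even (helper631)

* `spo`, `card_mem`, `facOk_spo` : the 26 orders;
* `chk`, `chk_spec` : the sieve `t ^ k ∣ |G(2 ^ i)| ≤ Bk t (2 t) k`;
* `spor_td4`, `spor_g2` : no solution, `2 ≤ k ≤ 14`, `2 ≤ k ≤ 7`.
-/

set_option autoImplicit false
set_option maxRecDepth 100000

namespace Cfsg.Agent.H631.EK

open Cfsg Cfsg.Agent.H746.EK

/-- `(t, Lc t, N, N')` for the 26 orders `t`: `|³D₄(2 ^ N)|`, `|G₂(2 ^ N')|` exceed the bounds -/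
def tab : List (ℕ × ℕ × ℕ × ℕ) :=
  [
   (7920, 1180782, 25, 25),
   (95040, 263096654, 33, 32),
   (175560, 938864925, 35, 34),
   (443520, 12284320528, 38, 37),
   (604800, 26403575918, 39, 38),
   (10200960, 85078705608595, 49, 48),
   (44352000, 6939969038255186, 54, 54),
   (50232960, 9988599647273403, 54, 54),
   (244823040, 1161839824146208863, 60, 60),
   (898128000, 56860639375088534644, 65, 65),
   (4030387200, 5137720598400073648596, 70, 70),
   (145926144000, 342912297682013117884884610, 83, 83),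
   (448345497600, 7074653979509130896882271457, 87, 87),
   (460815505920, 7678487647574025293413381306, 87, 87),
   (495766656000, 9561507406172574992750562711, 88, 87),
   (42305421312000, 125101331768759548739076491815915034033, 111, 110),
   (64561751654400, 463676411830021209497232836771062454, 107, 107),
   (273030912000000, 1597091312167063101990708086191728813, 110, 110),
   (51765179004000000, 10884472780383034928308828156706245361593220, 129, 129),
   (90745943887872000, 58637561862924700520829963564321565756572203, 131, 131),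
   (4089470473293004800, 5366565648343429615999125079156242694570695954223, 145, 145),
   (4157776806543360000, 7878565136423900831601518050555680368277884819698983, 150, 150),
   (86775571046077562880, 215585949250351294934087316365388129884754236960212054, 157, 157),
   (1255205709190661721292800, 155181148462093177482650633419451624195053172583263283514355087186, 191, 190),
   (4154781481226426191177580544000000,
      16437443347659448028862791724125782397999448537901061120469053380139232491637344324800768764744173499171182762902159875902529566110906174171319444143199388203389,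
      380, 380),
   (808017424794512875886459904961710757005754368000000000,
      1744699142847717977959513641796679181329088764586081663414614774730996748629349704627005917895027595677714643402348136734708140095461921260228914718252286018459653028743452252191343070039240443280737959936000000000,
      536, 535)]

/-- the orders of the sporadic groups -/
def spo : List ℕ := tab.map Prod.fst

theorem card_mem {T : Type*} [Group T] (h : IsSporadicGroup T) : Nat.card T ∈ spo := by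
  unfold IsSporadicGroup at h
  rcases h with h | h | h | h | h | h | h | h | h | h | h | h | h | h | h | h | h | h | h | h | h | h | h | h | h | h
  · rw [NotCT.Orders.m11 h]; decide
  · rw [NotCT.Orders.m12 h]; decide
  · rw [NotCT.Orders.m22 h]; decide
  · rw [NotCT.Orders.m23 h]; decide
  · rw [NotCT.Orders.m24 h]; decide
  · rw [NotCT.Orders.j1 h]; decide
  · rw [NotCT.Orders.j2 h]; decide
  · rw [NotCT.Orders.j3 h]; decide
  · rw [NotCT.Orders.j4 h]; decide
  · rw [NotCT.Orders.co1 h]; decide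
  · rw [NotCT.Orders.co2 h]; decide
  · rw [NotCT.Orders.co3 h]; decide
  · rw [NotCT.Orders.mcl h]; decide
  · rw [NotCT.Orders.hs h]; decide
  · rw [NotCT.Orders.suz h]; decide
  · rw [NotCT.Orders.he h]; decide
  · rw [NotCT.Orders.ru h]; decide
  · rw [NotCT.Orders.on h]; decide
  · rw [NotCT.Orders.ly h]; decide
  · rw [NotCT.Orders.fi22 h]; decide
  · rw [NotCT.Orders.fi23 h]; decide
  · rw [NotCT.Orders.fi24 h]; decide
  · rw [NotCT.Orders.hn h]; decide
  · rw [NotCT.Orders.th h]; decide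
  · rw [NotCT.Orders.b h]; decide
  · rw [NotCT.Orders.m h]; decide

private noncomputable def _root_.Cfsg.Agent.LsF.fc37964_0 : {f // @Cfsg.Agent.H631.EK.spo = f} := ⟨_, by first | (delta Cfsg.Agent.H631.EK.spo; rewrite [Cfsg.Agent.LsF.map_eq]; exact rfl) | exact rfl⟩
private noncomputable def _root_.Cfsg.Agent.LsF.fc37964_1 : {f // @Cfsg.Agent.H746.EK.vv = f} := ⟨_, by first | (delta Cfsg.Agent.H746.EK.vv Nat.brecOn.go Nat.brecOn Cfsg.Agent.H746.EK.vv._f; rewrite [Cfsg.Agent.LsF.nadd_pat, Cfsg.Agent.LsF.ndiv_pat, Cfsg.Agent.LsF.nmod_pat, Cfsg.Agent.LsF.instDecEq_eq, Cfsg.Agent.LsF.ite_eq]; (try delta Cfsg.Agent.H746.EK.vv.match_1); (try delta Nat.casesOn); first | dsimp -zeta only | exact rfl) | exact rfl⟩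
private noncomputable def _root_.Cfsg.Agent.LsF.fc37964_2 : {f // @Cfsg.Agent.H746.EK.fac = f} := ⟨_, by first | (delta Cfsg.Agent.H746.EK.fac; rewrite [Cfsg.Agent.LsF.fc37964_1.2, Cfsg.Agent.LsF.nmod_pat, Cfsg.Agent.LsF.nbeq_pat, Cfsg.Agent.LsF.map_eq, Cfsg.Agent.LsF.filter_eq]; exact rfl) | exact rfl⟩
private noncomputable def _root_.Cfsg.Agent.LsF.fc37964_3 : {f // @Cfsg.Agent.H746.EK.facOk = f} := ⟨_, by first | (delta Cfsg.Agent.H746.EK.facOk; rewrite [Cfsg.Agent.LsF.fc37964_2.2, Cfsg.Agent.LsF.npow_pat, Cfsg.Agent.LsF.and_eq, Cfsg.Agent.LsF.map_eq, Cfsg.Agent.LsF.prod_eq]; exact rfl) | exact rfl⟩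
theorem facOk_chk : (spo.all fun t => facOk t) = true := by ((try (rewrite [Cfsg.Agent.LsF.fc37964_0.2, Cfsg.Agent.LsF.fc37964_3.2, Cfsg.Agent.LsF.all_eq])); decide +kernel)

theorem facOk_spo {t : ℕ} (h : t ∈ spo) : facOk t = true := List.all_eq_true.1 facOk_chk t h

private noncomputable def _root_.Cfsg.Agent.LsF.fc37964_4 : {f // @Cfsg.Agent.H746.EK.galC = f} := ⟨_, by first | (delta Cfsg.Agent.H746.EK.galC; rewrite [Cfsg.Agent.LsF.nadd_pat, Cfsg.Agent.LsF.nsub_pat, Cfsg.Agent.LsF.ndiv_pat, Cfsg.Agent.LsF.npow_pat, Cfsg.Agent.LsF.map_eq, Cfsg.Agent.LsF.range_eq, Cfsg.Agent.LsF.sum_eq, Cfsg.Agent.LsF.prod_eq]; exact rfl) | exact rfl⟩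
private noncomputable def _root_.Cfsg.Agent.LsF.fc37964_5 : {f // @Cfsg.Agent.H746.EK.gs = f} := ⟨_, by first | (delta Cfsg.Agent.H746.EK.gs; rewrite [Cfsg.Agent.LsF.fc37964_4.2, Cfsg.Agent.LsF.fc37964_2.2, Cfsg.Agent.LsF.map_eq, Cfsg.Agent.LsF.sum_eq]; exact rfl) | exact rfl⟩
private noncomputable def _root_.Cfsg.Agent.LsF.fc37964_6 : {f // @Cfsg.Agent.H746.EK.Lc = f} := ⟨_, by first | (delta Cfsg.Agent.H746.EK.Lc; rewrite [Cfsg.Agent.LsF.fc37964_5.2, Cfsg.Agent.LsF.nadd_pat, Cfsg.Agent.LsF.nmul_pat, Cfsg.Agent.LsF.ndiv_pat, Cfsg.Agent.LsF.npow_pat]; exact rfl) | exact rfl⟩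
theorem Lc_chk : (tab.all fun x => Nat.beq (Lc x.1) x.2.1) = true := by ((try (rewrite [Cfsg.Agent.LsF.fc37964_6.2, Cfsg.Agent.LsF.all_eq])); decide +kernel)

/-- `Bk t (2 t) k` with `L = Lc t` -/
def bk (L t k : ℕ) : ℕ := (1 + (L ^ k + Ik t (2 * t) k) * (2 * Dk t k)) * ((2 * t) ^ k * k.factorial)

theorem bk_eq (t k : ℕ) : bk (Lc t) t k = Bk t (2 * t) k := rfl

/-- the sieve -/
def chk (f : Fam) (t L K N : ℕ) : Bool :=
  ((List.range (N - 1)).all fun i => !(Nat.beq (nm f (2 ^ (i + 1)) % t ^ 2) 0) ||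
    (List.range (K - 1)).all fun k => !(Nat.beq (nm f (2 ^ (i + 1)) % t ^ (k + 2)) 0) ||
      Nat.blt (bk L t (k + 2)) (nm f (2 ^ (i + 1)))) &&
  ((List.range (K - 1)).all fun k => Nat.blt (bk L t (k + 2)) (nm f (2 ^ N)))

theorem blt_lt {a b : ℕ} (h : Nat.blt a b = true) : a < b := by
  unfold Nat.blt at h
  exact Nat.le_of_ble_eq_true h

theorem not_beq {a : ℕ} (h : (!(Nat.beq a 0)) = true) : a ≠ 0 := by
  rintro rfl
  exact absurd h (by decide)

theorem chk_spec {f : Fam} {t K N i k : ℕ} (h : chk f t (Lc t) K N = true) (hi : 1 ≤ i) (hk : 2 ≤ k) (hkK : k ≤ K)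
    (hd : t ^ k ∣ nm f (2 ^ i)) (hB : nm f (2 ^ i) ≤ Bk t (2 * t) k) : False := by
  rw [chk, Bool.and_eq_true, List.all_eq_true, List.all_eq_true] at h
  obtain ⟨h1, h2⟩ := h
  have hkr : k - 2 ∈ List.range (K - 1) := List.mem_range.2 (by omega)
  rcases Nat.lt_or_ge i N with hlt | hge
  · have h3 := h1 (i - 1) (List.mem_range.2 (by omega))
    rw [Nat.sub_add_cancel hi, Bool.or_eq_true, List.all_eq_true] at h3
    rcases h3 with h3 | h3
    · exact not_beq h3 (Nat.mod_eq_zero_of_dvd ((pow_dvd_pow t hk).trans hd))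
    · have h4 := h3 (k - 2) hkr
      rw [Nat.sub_add_cancel hk, Bool.or_eq_true] at h4
      rcases h4 with h4 | h4
      · exact not_beq h4 (Nat.mod_eq_zero_of_dvd hd)
      · have h5 := blt_lt h4
        rw [bk_eq] at h5
        omega
  · have h3 := h2 (k - 2) hkr
    rw [Nat.sub_add_cancel hk] at h3
    have h4 := blt_lt h3
    rw [bk_eq] at h4
    have h5 : nm f (2 ^ N) ≤ nm f (2 ^ i) := nm_mono f (Nat.pow_le_pow_right (by norm_num) hge)
    omega

private noncomputable def _root_.Cfsg.Agent.LsF.fc37964_7 : {f // @Cfsg.Agent.H746.EK.nm = f} := ⟨_, by first | (delta Cfsg.Agent.H746.EK.nm; rewrite [Cfsg.Agent.LsF.nadd_pat, Cfsg.Agent.LsF.nmul_pat, Cfsg.Agent.LsF.nsub_pat, Cfsg.Agent.LsF.npow_pat]; (try delta Cfsg.Agent.H746.EK.nm.match_1); (try delta Cfsg.Agent.H746.EK.Fam.casesOn); exact rfl) | exact rfl⟩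
private noncomputable def _root_.Cfsg.Agent.LsF.fc37964_8 : {f // @Cfsg.Agent.H746.EK.Ik = f} := ⟨_, by first | (delta Cfsg.Agent.H746.EK.Ik; rewrite [Cfsg.Agent.LsF.nadd_pat, Cfsg.Agent.LsF.nmul_pat, Cfsg.Agent.LsF.nsub_pat, Cfsg.Agent.LsF.npow_pat, Cfsg.Agent.LsF.decLe_eq, Cfsg.Agent.LsF.ite_eq]; exact rfl) | exact rfl⟩
private noncomputable def _root_.Cfsg.Agent.LsF.fc37964_9 : {f // @Cfsg.Agent.H746.EK.Dk = f} := ⟨_, by first | (delta Cfsg.Agent.H746.EK.Dk; rewrite [Cfsg.Agent.LsF.nadd_pat, Cfsg.Agent.LsF.nsub_pat, Cfsg.Agent.LsF.ndiv_pat, Cfsg.Agent.LsF.npow_pat, Cfsg.Agent.LsF.nmax_pat, Cfsg.Agent.LsF.decLe_eq, Cfsg.Agent.LsF.ite_eq]; exact rfl) | exact rfl⟩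
private noncomputable def _root_.Cfsg.Agent.LsF.fc37964_10 : {f // @Nat.factorial = f} := ⟨_, by first | (delta Nat.factorial Nat.brecOn.go Nat.brecOn Nat.factorial._f; rewrite [Cfsg.Agent.LsF.nmul_pat]; (try delta Nat.factorial.match_1); (try delta Nat.casesOn); first | dsimp -zeta only | exact rfl) | exact rfl⟩
private noncomputable def _root_.Cfsg.Agent.LsF.fc37964_11 : {f // @Cfsg.Agent.H631.EK.bk = f} := ⟨_, by first | (delta Cfsg.Agent.H631.EK.bk; rewrite [Cfsg.Agent.LsF.fc37964_8.2, Cfsg.Agent.LsF.fc37964_9.2, Cfsg.Agent.LsF.fc37964_10.2, Cfsg.Agent.LsF.nadd_pat, Cfsg.Agent.LsF.nmul_pat, Cfsg.Agent.LsF.npow_pat]; exact rfl) | exact rfl⟩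
private noncomputable def _root_.Cfsg.Agent.LsF.fc37964_12 : {f // @Cfsg.Agent.H631.EK.chk = f} := ⟨_, by first | (delta Cfsg.Agent.H631.EK.chk; rewrite [Cfsg.Agent.LsF.fc37964_7.2, Cfsg.Agent.LsF.fc37964_11.2, Cfsg.Agent.LsF.nadd_pat, Cfsg.Agent.LsF.nsub_pat, Cfsg.Agent.LsF.nmod_pat, Cfsg.Agent.LsF.npow_pat, Cfsg.Agent.LsF.and_eq, Cfsg.Agent.LsF.or_eq, Cfsg.Agent.LsF.not_eq, Cfsg.Agent.LsF.all_eq, Cfsg.Agent.LsF.range_eq]; exact rfl) | exact rfl⟩
theorem chk_td4 : (tab.all fun x => chk .td4 x.1 x.2.1 14 x.2.2.1) = true := by ((try (rewrite [Cfsg.Agent.LsF.fc37964_12.2, Cfsg.Agent.LsF.all_eq])); decide +kernel)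

theorem chk_g2 : (tab.all fun x => chk .g2 x.1 x.2.1 7 x.2.2.2) = true := by ((try (rewrite [Cfsg.Agent.LsF.fc37964_12.2, Cfsg.Agent.LsF.all_eq])); decide +kernel)

theorem exists_row {t : ℕ} (h : t ∈ spo) : ∃ x ∈ tab, x.1 = t ∧ x.2.1 = Lc t := by
  obtain ⟨x, hx, rfl⟩ := List.mem_map.1 h
  exact ⟨x, hx, rfl, (Nat.eq_of_beq_eq_true (List.all_eq_true.1 Lc_chk x hx)).symm⟩

theorem even_pow {q : ℕ} (hq : IsPrimePow q) (h2 : 2 ∣ q) : ∃ i, 1 ≤ i ∧ q = 2 ^ i := by
  obtain ⟨r, k, hr, hk, rfl⟩ := hq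
  have h3 := (Nat.prime_two).dvd_of_dvd_pow h2
  rw [Nat.prime_dvd_prime_iff_eq Nat.prime_two hr.nat_prime] at h3
  exact ⟨k, hk, by rw [h3]⟩

/-- **`³D₄(q)`, `q` even** -/
theorem spor_td4 {t : ℕ} (ht : t ∈ spo) {q k C : ℕ} (hq : IsPrimePow q) (h2 : 2 ∣ q) (hk : 2 ≤ k) (hk' : k ≤ 14)
    (hC : dn .td4 q * C = nm .td4 q) (hd : t ^ k ∣ C) (hB : C ≤ Bk t (2 * t) k) : False := by
  obtain ⟨i, hi, rfl⟩ := even_pow hq h2
  obtain ⟨x, hx, rfl, hL⟩ := exists_row ht
  have h1 : chk .td4 x.1 x.2.1 14 x.2.2.1 = true := List.all_eq_true.1 chk_td4 x hx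
  rw [hL] at h1
  have hC' : C = nm .td4 (2 ^ i) := by rw [← hC]; exact (one_mul C).symm
  exact chk_spec h1 hi hk hk' (hC' ▸ hd) (hC' ▸ hB)

/-- **`G₂(q)`, `q` even** -/
theorem spor_g2 {t : ℕ} (ht : t ∈ spo) {q k C : ℕ} (hq : IsPrimePow q) (h2 : 2 ∣ q) (hk : 2 ≤ k) (hk' : k ≤ 7)
    (hC : dn .g2 q * C = nm .g2 q) (hd : t ^ k ∣ C) (hB : C ≤ Bk t (2 * t) k) : False := by
  obtain ⟨i, hi, rfl⟩ := even_pow hq h2
  obtain ⟨x, hx, rfl, hL⟩ := exists_row ht
  have h1 : chk .g2 x.1 x.2.1 7 x.2.2.2 = true := List.all_eq_true.1 chk_g2 x hx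
  rw [hL] at h1
  have hC' : C = nm .g2 (2 ^ i) := by rw [← hC]; exact (one_mul C).symm
  exact chk_spec h1 hi hk hk' (hC' ▸ hd) (hC' ▸ hB)

end Cfsg.Agent.H631.EK
end

-- part: H894/EK/Gen
section
/-!
# S5745, CrossK: the glue theorem for all families (helper894)

`crossk_gen` : `CrossK p G` for a model `G` of the family `Y`, from the kernel tables of `H252.EN.TabK` and the rows.
-/

set_option autoImplicit false

namespace Cfsg.Agent.H894.EK

open Cfsg Cfsg.Agent.OrdDiv Cfsg.Agent.H902 Cfsg.Agent.H902.Names Cfsg.Agent.H290.ElReg Cfsg.Agent.H290.ElTab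
open Cfsg.Agent.H209.EPX Cfsg.Agent.H542.EPX Cfsg.Agent.H889.Enum Cfsg.Agent.H252.EN Cfsg.Agent.H354.EPX
open Cfsg.Agent.H746.EK

/-- the bound (TK) for all `k` -/
def BdAll : Prop := ∀ (G : Type) [Group G] [Finite G] (H N : Subgroup G) (T : Type) [Group T] (k : ℕ)
  (e : N ≃* (Fin k → T)) (a : ℕ), EPS H N e → Cfsg.Agent.Schreier.Basic.Sch T → 2 ≤ k → Nat.card (MulAut T) ≤ a →
    a ≤ Nat.card T ^ 2 → k ≤ Nat.card T ^ 2 → Nat.card T < 60 ^ 61 → facOk (Nat.card T) = true →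
    Nat.card G ≤ Bk (Nat.card T) a k

/-- no stabiliser with socle `T ^ k`, `P T`, `T` not of Lie type in characteristic `p` -/
def RowX (P : ∀ (T : Type) [Group T], Prop) (p : ℕ) (G : Type) [Group G] (k : ℕ) : Prop :=
  ∀ (H N : Subgroup G) (T : Type) [Group T] (e : N ≃* (Fin k → T)), EPS H N e → P T → ¬ IsLieTypeChar p T → False

/-- `T` has a name of shape `X` -/
abbrev NmL (X : Art.Sh) (l a : ℕ) : ∀ (T : Type) [Group T], Prop := fun T _ => ∃ g, IsLie g X l a ∧ OrdDiv.Real g T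

/-- the injection of the socle -/
def embK {G : Type} [Group G] {N : Subgroup G} {T : Type} [Group T] {k : ℕ} (e : N ≃* (Fin k → T)) : (Fin k → T) →* G :=
  N.subtype.comp e.symm.toMonoidHom

theorem embK_injective {G : Type} [Group G] {N : Subgroup G} {T : Type} [Group T] {k : ℕ} (e : N ≃* (Fin k → T)) :
    Function.Injective (embK e) := N.subtype_injective.comp e.symm.injective

/-- the injection of a factor -/
theorem exists_factor {G : Type} [Group G] {N : Subgroup G} {T : Type} [Group T] {k : ℕ} (e : N ≃* (Fin k → T))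
    (hk : 0 < k) : ∃ φ : T →* G, Function.Injective φ := by
  classical
  exact ⟨(embK e).comp (MonoidHom.mulSingle (fun _ : Fin k => T) ⟨0, hk⟩),
    (embK_injective e).comp (Pi.mulSingle_injective (M := fun _ : Fin k => T) ⟨0, hk⟩)⟩

theorem finT {G : Type} [Group G] [Finite G] {N : Subgroup G} {T : Type} [Group T] {k : ℕ} (e : N ≃* (Fin k → T))
    (hk : 0 < k) : Finite T := by
  obtain ⟨φ, hφ⟩ := exists_factor e hk
  exact Finite.of_injective φ hφ

/-- `|Aut T| ≤ 2 |T|` for the sporadic groups -/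
theorem aut_le_two {T : Type} [Group T] [Finite T] (h : IsSporadicGroup T) : Nat.card (MulAut T) ≤ 2 * Nat.card T := by
  have h1 := Cfsg.Agent.H498.SporOut.index_le_two h
  have h2 := Subgroup.card_mul_index (MulAut.conj : T →* MulAut T).range
  have h3 : Nat.card (MulAut.conj : T →* MulAut T).range ≤ Nat.card T :=
    Nat.card_le_card_of_surjective (MulAut.conj : T →* MulAut T).rangeRestrict (MonoidHom.rangeRestrict_surjective _)
  rw [← h2, mul_comm 2]
  exact Nat.mul_le_mul h3 h1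

/-- the region of degree 124: sizes -/
theorem reg_chk : ((reg 124).all fun x => Nat.blt 0 (ouN x.1 x.2.1 x.2.2) &&
    (Nat.ble (ouN x.1 x.2.1 x.2.2) (od x.1 x.2.1 x.2.2) &&
    Nat.blt (od x.1 x.2.1 x.2.2) (60 ^ 61))) = true := by decide +kernel

theorem reg_mono {m n : ℕ} (h : m ≤ n) {X : Art.Sh} {l a : ℕ} (hr : (X, (l, a)) ∈ reg m) : (X, (l, a)) ∈ reg n := by
  obtain ⟨r1, r2, r3, r4⟩ := mem_reg_iff.1 hr
  exact mem_reg_iff.2 ⟨r1, r2, r3.trans h, r4⟩

theorem reg_sizes {n : ℕ} (hn : n ≤ 124) {X : Art.Sh} {l a t : ℕ} (hr : (X, (l, a)) ∈ reg n) (hT : Art.Real X l a t) :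
    0 < ouN X l a ∧ ouN X l a ≤ t ∧ t < 60 ^ 61 := by
  have h1 := List.all_eq_true.1 reg_chk _ (reg_mono hn hr)
  rw [← real_eq hT, Bool.and_eq_true, Bool.and_eq_true, Nat.ble_eq, Nat.blt_eq, Nat.blt_eq] at h1
  exact h1

theorem sixty_le {T : Type} [Group T] [Finite T] (hs : IsSimpleGroup T) (hna : ∃ a b : T, a * b ≠ b * a) :
    60 ≤ Nat.card T := by
  refine Cfsg.Agent.H168.NoSolv.sixty_le fun hsol => ?_
  obtain ⟨a, b, hab⟩ := hna
  exact hab (IsSimpleGroup.comm_iff_isSolvable.2 hsol a b)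

/-- the part of the tables for the names of Lie type -/
def LieK (Y : Art.Sh) (D p : ℕ) (al : List (((Art.Sh × ℕ × ℕ) × ℕ) × ℕ)) : Prop :=
  ∀ (X : Art.Sh) (l a t k f g : ℕ), 2 ≤ k → k ≤ D / 2 → Art.Real X l a t → (X, (l, a)) ∈ reg (D / k) →
    Art.Real Y p f g → l ≠ p → (Odd p → Y ∈ Yo ∧ k ≤ kodd Y) →
    facOk t = true ∧ (g ≤ Bk t (ouN X l a * t) k → t ^ k ∣ g → (((X, (l, a)), k), p ^ f) ∈ al)

/-- the part of the tables for the Tits group -/
def TitsK (Y : Art.Sh) (D p : ℕ) (al : List ((Unit × ℕ) × ℕ)) : Prop :=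
  ∀ (k f g : ℕ), 2 ≤ k → k ≤ D / 2 → Art.Real Y p f g → g ≤ Bk 17971200 35942400 k → 17971200 ^ k ∣ g →
    (Odd p → Y ∈ Yo ∧ k ≤ kodd Y) → (((), k), p ^ f) ∈ al

/-- the sporadic part of the tables -/
def SporK (Y : Art.Sh) (D p : ℕ) (al : List ((ℕ × ℕ) × ℕ)) : Prop :=
  ∀ (T : Type) [Group T] [Finite T] (k f g : ℕ), IsSporadicGroup T → 2 ≤ k → k ≤ D / 2 → Art.Real Y p f g →
    (Odd p → Y ∈ Yo ∧ k ≤ kodd Y) →
    (∃ (K : Type) (_ : Field K) (_ : CharP K p) (_ : IsAlgClosed K), Fth (D / k) K T) →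
    g ≤ Bk (Nat.card T) (2 * Nat.card T) k → Nat.card T ^ k ∣ g → ((Nat.card T, k), p ^ f) ∈ al

/-- the alternating part of the tables -/
def AltK (Y : Art.Sh) (D m p : ℕ) (al : List ((ℕ × ℕ) × ℕ)) : Prop :=
  ∀ (n t k f g : ℕ), 2 ≤ k → k ≤ D / 2 → 5 ≤ n → n ≤ m → 2 * t = n.factorial → Art.Real Y p f g →
    g ≤ Bk t (autA n) k → t ^ k ∣ g → (Odd p → Y ∈ Yo ∧ k ≤ kodd Y) → ((n, k), p ^ f) ∈ al

/-- the numbers `n! / 2`, `n ≤ 18` -/
theorem alt_chk : ((List.range 19).all fun n => Nat.blt n 5 || (facOk (n.factorial / 2) &&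
    (Nat.ble (autA n) ((n.factorial / 2) ^ 2) && Nat.blt (n.factorial / 2) (60 ^ 61)))) = true := by decide +kernel

theorem alt_ok {n t : ℕ} (h5 : 5 ≤ n) (h18 : n ≤ 18) (ht : 2 * t = n.factorial) :
    facOk t = true ∧ autA n ≤ t ^ 2 ∧ t < 60 ^ 61 := by
  have h1 := List.all_eq_true.1 alt_chk n (List.mem_range.2 (by omega))
  rw [show n.factorial / 2 = t by omega] at h1
  simp only [Bool.or_eq_true, Bool.and_eq_true, Nat.ble_eq, Nat.blt_eq] at h1
  rcases h1 with h1 | h1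
  · omega
  · exact ⟨h1.1, h1.2.1, h1.2.2⟩

theorem tits_ok : facOk 17971200 = true := by decide +kernel

/-- **the glue theorem** -/
theorem crossk_gen (hK : AllK) (A : AutData) (B : BdAll) {D p f : ℕ} [Fact p.Prime] (hD : D ≤ 248) {F : Type} [Field F]
    [CharP F p] {G : Type} [Group G] [Finite G] (hG : Fth D F G) {Y : Art.Sh}
    (hR : Art.Real Y p f (Nat.card G))
    (hodd : ∀ (H N : Subgroup G) (T : Type) [Group T] (k : ℕ) (e : N ≃* (Fin k → T)), 2 ≤ k → k ≤ D / 2 →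
      EPS H N e → Odd p → Y ∈ Yo ∧ k ≤ kodd Y)
    {al : List (((Art.Sh × ℕ × ℕ) × ℕ) × ℕ)} (hc : LieK Y D p al) {m : ℕ} (hm18 : m ≤ 18)
    {alA : List ((ℕ × ℕ) × ℕ)} (hcA : AltK Y D m p alA)
    (hm : ∀ (T : Type) [Group T] (n : ℕ) (i : T →* G), Function.Injective i →
      Nonempty (T ≃* alternatingGroup (Fin n)) → n ≤ m)
    {alT : List ((Unit × ℕ) × ℕ)} (hcT : TitsK Y D p alT)
    {alS : List ((ℕ × ℕ) × ℕ)} (hcS : SporK Y D p alS)
    (rows : ∀ (X : Art.Sh) (l a k : ℕ), (((X, (l, a)), k), p ^ f) ∈ al → l ≠ p → RowX (NmL X l a) p G k)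
    (rowsA : ∀ n k : ℕ, ((n, k), p ^ f) ∈ alA → RowX (Nm (.alt n)) p G k)
    (rowsT : ∀ k : ℕ, (((), k), p ^ f) ∈ alT → RowX (Nm .tits) p G k)
    (rowsS : ∀ t k : ℕ, ((t, k), p ^ f) ∈ alS →
      RowX (fun T _ => IsSporadicGroup T ∧ Nat.card T = t) p G k) : CrossK p G := by
  intro H N T _ k e hk h hL
  have hT : Finite T := finT e (by omega)
  have hs : IsSimpleGroup T := h.simple
  have hna : ¬ ∀ a b : T, a * b = b * a := by
    obtain ⟨a, b, hab⟩ := h.nab
    exact fun hc => hab (hc a b)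
  have hKT : IsKnownSimple' T := hK T hs
  have hsch : Cfsg.Agent.Schreier.Basic.Sch T :=
    Cfsg.Agent.Schreier.Assembly.known T (fun hcm => hna fun a b => hcm.is_comm.comm a b) hKT
  have h60 := sixty_le hs h.nab
  have hfth : Fth (D / k) (AlgebraicClosure F) T :=
    Cfsg.Agent.H898.EPX.fth_div (by omega) hna hG (embK e) (embK_injective e)
  have hch : CharP (AlgebraicClosure F) p := charP_of_injective_algebraMap (algebraMap F (AlgebraicClosure F)).injective p
  have hDk : D / k ≤ 124 := (Nat.div_le_div_left hk (by norm_num)).trans (by omega)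
  have hkD : k ≤ D / 2 := by
    by_contra hcon
    push Not at hcon
    have h1 : D < k * 2 := by omega
    have h2 : D / k < 2 := (Nat.div_lt_iff_lt_mul (by omega)).2 (by rw [mul_comm]; exact h1)
    -- degree `≤ 1` : abelian
    obtain ⟨ρ, hρ⟩ := hfth
    apply hna
    intro a b
    apply hρ
    rw [map_mul, map_mul]
    apply Units.ext
    rw [Units.val_mul, Units.val_mul]
    ext i j
    have hi : ∀ x y : Fin (D / k), x = y := by
      intro x y
      apply Fin.ext
      have := x.2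
      have := y.2
      omega
    rw [Matrix.mul_apply, Matrix.mul_apply]
    refine Finset.sum_congr rfl fun x _ => ?_
    rw [hi x i, hi j i, mul_comm]
  have hkT : k ≤ Nat.card T ^ 2 := by
    calc k ≤ D / 2 := hkD
      _ ≤ 60 ^ 2 := by omega
      _ ≤ Nat.card T ^ 2 := Nat.pow_le_pow_left h60 2
  have hd : Nat.card T ^ k ∣ Nat.card G := pow_dvd h
  have ho := hodd H N T k e hk hkD h
  rcases cross_lie table (hDk.trans (by norm_num)) hna hKT hfth hL with h1 | h1 | h1 | h1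
  · obtain ⟨n, hn, he⟩ := h1
    obtain ⟨φ, hφ⟩ := exists_factor e (by omega)
    have hnm := hm T n φ hφ he
    have ht : 2 * Nat.card T = n.factorial := by
      obtain ⟨i⟩ := he
      rw [Nat.card_congr i.toEquiv, Nat.card_eq_fintype_card]
      have : Nontrivial (Fin n) := Fin.nontrivial_iff_two_le.2 (by omega)
      rw [two_mul_card_alternatingGroup, Fintype.card_perm, Fintype.card_fin]
    obtain ⟨k1, k2, k3⟩ := alt_ok hn (hnm.trans hm18) ht
    have ha : Nat.card (MulAut T) ≤ autA n := by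
      refine Nat.le_of_dvd ?_ (A.alt n T hna hn he)
      unfold autA
      split_ifs
      · norm_num
      · exact Nat.factorial_pos n
    have hB := B G H N T k e (autA n) h hsch hk ha k2 hkT k3 k1
    exact rowsA n k (hcA n (Nat.card T) k f (Nat.card G) hk hkD hn hnm ht hR hB hd ho) H N T e h he hL
  · have ht : Nat.card T = 17971200 := table_spor T (.tits, 17971200) (by decide) h1
    have ha : Nat.card (MulAut T) ≤ 35942400 := Nat.le_of_dvd (by norm_num) (A.tits T hna h1)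
    have hB := B G H N T k e 35942400 h hsch hk ha (by rw [ht]; norm_num) hkT (by rw [ht]; norm_num)
      (by rw [ht]; exact tits_ok)
    rw [ht] at hB hd
    exact rowsT k (hcT k f _ hk hkD hR hB hd ho) H N T e h h1 hL
  · have hmem := Cfsg.Agent.H631.EK.card_mem h1
    have h2 : Nat.card T < 60 ^ 61 := by
      have : (Cfsg.Agent.H631.EK.spo.all fun t => Nat.blt t (60 ^ 61)) = true := by decide +kernel
      have h3 := List.all_eq_true.1 this _ hmem
      rwa [Nat.blt_eq] at h3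
    have hB := B G H N T k e (2 * Nat.card T) h hsch hk (aut_le_two h1)
      (by rw [pow_two]; exact Nat.mul_le_mul_right _ (by omega)) hkT h2 (Cfsg.Agent.H631.EK.facOk_spo hmem)
    exact rowsS _ k (hcS T k f (Nat.card G) h1 hk hkD hR ho ⟨_, _, hch, inferInstance, hfth⟩ hB hd) H N T e h ⟨h1, rfl⟩ hL
  · obtain ⟨g, X, l, a, hg, hRT, hA, hr, hlp⟩ := h1
    obtain ⟨k1, k2, k3⟩ := reg_sizes hDk hr hA
    have ha : Nat.card (MulAut T) ≤ ouN X l a * Nat.card T :=
      Nat.le_of_dvd (Nat.mul_pos k1 (by omega)) (A.lie g X l a T hna hg hRT hA)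
    obtain ⟨hf, hc'⟩ := hc X l a (Nat.card T) k f _ hk hkD hA hr hR hlp ho
    have hB := B G H N T k e _ h hsch hk ha (by rw [pow_two]; exact Nat.mul_le_mul_right _ k2) hkT k3 hf
    exact rows X l a k (hc' hB hd) hlp H N T e h ⟨g, hg, hRT⟩ hL

end Cfsg.Agent.H894.EK
end

private theorem dce_8da0c731d387 : _root_.True := by
  try have : _root_.True := by simp only [_root_.Cfsg.Agent.H631.EK.chk.eq_1]
  exact _root_.True.intro
end

-- part: H783/EX/LSix
section
set_option linter.all false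
open scoped Cfsg.Agent.FastGrp

/-!
# S5745, the row `r.f4.5.L6(2)` (helper783)

`PSL₆(q')`, `q'` even, contains an elementary abelian group of order `q' ^ 9 > 64`, so it does not embed in `F₄(q)`,
`E₆(q)`, `²E₆(q)`, `q` odd.
-/

set_option autoImplicit false

namespace Cfsg.Agent.H783.EX

open Cfsg Cfsg.Lie Matrix Cfsg.Agent.H357.EP
open Cfsg.Agent.H284 Cfsg.Agent.H209.EPX Cfsg.Agent.H542.EPX

theorem not_inE6_of_hom {T A : Type*} [Group T] [Group A] [Finite A] (hA : ∀ a : A, a * a = 1) (f : A →* T)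
    (hf : Function.Injective f) (hc : 64 < Nat.card A) : ¬ InE6 T := by
  intro h
  have h1 : Nat.card f.range = Nat.card A := (Nat.card_congr (MonoidHom.ofInjective hf).toEquiv).symm
  refine h.no_seven f.range ?_ (by rwa [h1])
  rintro _ ⟨a, rfl⟩
  rw [← map_mul, hA, map_one]

section six

variable {F : Type*} [Field F]

/-- the unipotent radical of the stabiliser of a 3-space -/
def uSix : Multiplicative (Matrix (Fin 3) (Fin 3) F) →* Matrix.SpecialLinearGroup (Fin 6) F :=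
  MonoidHom.mk' (fun A => ⟨Matrix.reindex (finSumFinEquiv (m := 3) (n := 3)) (finSumFinEquiv (m := 3) (n := 3))
      (Matrix.fromBlocks 1 A.toAdd 0 1), by
    rw [Matrix.det_reindex_self, Matrix.det_fromBlocks_zero₂₁, Matrix.det_one, one_mul]⟩) (by
    intro A B
    apply Subtype.ext
    have h : Matrix.reindex (finSumFinEquiv (m := 3) (n := 3)) (finSumFinEquiv (m := 3) (n := 3))
        (Matrix.fromBlocks (1 : Matrix (Fin 3) (Fin 3) F) (A * B).toAdd 0 1) =
        Matrix.reindex (finSumFinEquiv (m := 3) (n := 3)) (finSumFinEquiv (m := 3) (n := 3))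
          (Matrix.fromBlocks (1 : Matrix (Fin 3) (Fin 3) F) A.toAdd 0 1) *
        Matrix.reindex (finSumFinEquiv (m := 3) (n := 3)) (finSumFinEquiv (m := 3) (n := 3))
          (Matrix.fromBlocks (1 : Matrix (Fin 3) (Fin 3) F) B.toAdd 0 1) := by
      rw [Matrix.reindex_apply, Matrix.reindex_apply, Matrix.reindex_apply, Matrix.submatrix_mul_equiv,
        Matrix.fromBlocks_multiply]
      congr 1
      simp [add_comm]
    exact h)

theorem uSix_ker (A : Multiplicative (Matrix (Fin 3) (Fin 3) F))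
    (h : uSix A ∈ Subgroup.center (Matrix.SpecialLinearGroup (Fin 6) F)) : A = 1 := by
  obtain ⟨r, -, hr⟩ := Matrix.SpecialLinearGroup.mem_center_iff.1 h
  apply Multiplicative.toAdd.injective
  show A.toAdd = 0
  ext i j
  have h1 := congrFun (congrFun hr (finSumFinEquiv (m := 3) (n := 3) (Sum.inl i)))
    (finSumFinEquiv (m := 3) (n := 3) (Sum.inr j))
  have h2 : (uSix A : Matrix (Fin 6) (Fin 6) F) (finSumFinEquiv (m := 3) (n := 3) (Sum.inl i))
      (finSumFinEquiv (m := 3) (n := 3) (Sum.inr j)) = A.toAdd i j := by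
    show Matrix.reindex (finSumFinEquiv (m := 3) (n := 3)) (finSumFinEquiv (m := 3) (n := 3))
      (Matrix.fromBlocks 1 A.toAdd 0 1) _ _ = _
    rw [Matrix.reindex_apply, Matrix.submatrix_apply, Equiv.symm_apply_apply, Equiv.symm_apply_apply,
      Matrix.fromBlocks_apply₁₂]
  rw [h2, Matrix.scalar_apply, Matrix.diagonal_apply_ne] at h1
  · exact h1.symm
  · intro he
    have := (finSumFinEquiv (m := 3) (n := 3)).injective he
    simp at this

/-- **`PSL₆(q')`, `q'` even, does not embed in `E₆(q)`, `q` odd** -/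
theorem not_inE6_psl_six [Finite F] [CharP F 2] : ¬ InE6 (Matrix.ProjectiveSpecialLinearGroup (Fin 6) F) := by
  have : Finite (Matrix (Fin 3) (Fin 3) F) := inferInstance
  refine not_inE6_of_hom (A := Multiplicative (Matrix (Fin 3) (Fin 3) F)) ?_
    ((QuotientGroup.mk' _).comp uSix) ?_ ?_
  · intro a
    apply Multiplicative.toAdd.injective
    show a.toAdd + a.toAdd = 0
    ext i j
    exact CharTwo.add_self_eq_zero _
  · rw [injective_iff_map_eq_one]
    intro A hA
    exact uSix_ker A ((QuotientGroup.eq_one_iff _).1 hA)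
  · have h1 : Nat.card (Multiplicative (Matrix (Fin 3) (Fin 3) F)) = Nat.card F ^ 9 := by
      show Nat.card (Fin 3 → Fin 3 → F) = _
      have h3 : Nat.card (Fin 3 → F) = Nat.card F ^ 3 := by rw [Nat.card_pi]; simp
      rw [Nat.card_pi]
      simp only [h3, Finset.prod_const, Finset.card_univ, Fintype.card_fin]
      rw [← pow_mul]
    have h2 : 2 ≤ Nat.card F := Finite.one_lt_card
    rw [h1]
    calc 64 < 2 ^ 9 := by norm_num
      _ ≤ _ := Nat.pow_le_pow_left h2 9

/-- **the row `r.f4.5.L6(2)`** -/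
theorem eps_psl_six {G : Type*} [Group G] (hG : InE6 G) [Finite F] [CharP F 2] {H N : Subgroup G} {T : Type} [Group T]
    {k : ℕ} {e : N ≃* (Fin k → T)} (h : EPS H N e) (i : T ≃* Matrix.ProjectiveSpecialLinearGroup (Fin 6) F) : False := by
  refine not_inE6_psl_six (F := F) (hG.mono ((Cfsg.Agent.H758.EPX.inj e ⟨0, h.pos⟩).comp i.symm.toMonoidHom)
    ((Cfsg.Agent.H758.EPX.inj_injective e _).comp i.symm.injective))

end six

end Cfsg.Agent.H783.EX
end

-- part: H783/EX/Rk16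
section
set_option linter.all false
open scoped Cfsg.Agent.FastGrp

/-!
# S5745, `k ≥ 2`, odd characteristic: simple groups of 2-rank at least 4 (helper783)

`Rk4 T` : `T` has an elementary abelian 2-subgroup of order at least 16. Then `T ^ k`, `k ≥ 2`, is not the socle of an
extremely primitive stabiliser in `E₆(q)`, `²E₆(q)`, `F₄(q)`, `q` odd (`Rk4.no`).

* `rk4_psl` : `PSL_(m+n)(q')`, `q'` even, `q' ^ (m n) ≥ 16` (`L₃(4)`, `L₂(64)`, `L₄(2)`, ...);
* `rk4_psp` : `PSp_(2m)(q')`, `q'` even, `m ≥ 3`.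
-/

set_option autoImplicit false

set_option linter.unusedSectionVars false

namespace Cfsg.Agent.H783.EX

open Cfsg Cfsg.Lie Matrix Cfsg.Agent.H357.EP
open Cfsg.Agent.H284 Cfsg.Agent.H209.EPX Cfsg.Agent.H542.EPX

/-- 2-rank at least 4 -/
def Rk4 (T : Type*) [Group T] : Prop := ∃ V : Subgroup T, (∀ x ∈ V, x * x = 1) ∧ 16 ≤ Nat.card V

theorem Rk4.of_hom {T A : Type*} [Group T] [Group A] (hA : ∀ a : A, a * a = 1) (f : A →* T)
    (hf : Function.Injective f) (hc : 16 ≤ Nat.card A) : Rk4 T := by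
  have h1 : Nat.card f.range = Nat.card A := (Nat.card_congr (MonoidHom.ofInjective hf).toEquiv).symm
  refine ⟨f.range, ?_, by rwa [h1]⟩
  rintro _ ⟨a, rfl⟩
  rw [← map_mul, hA, map_one]

theorem Rk4.mono {S T : Type*} [Group S] [Group T] (h : Rk4 S) (f : S →* T) (hf : Function.Injective f) : Rk4 T := by
  obtain ⟨V, hV, hc⟩ := h
  exact Rk4.of_hom (A := V) (fun a => Subtype.ext (hV a a.2)) (f.comp V.subtype) (hf.comp Subtype.val_injective) hc

theorem Rk4.congr {S T : Type*} [Group S] [Group T] (e : T ≃* S) (h : Rk4 S) : Rk4 T :=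
  h.mono e.symm.toMonoidHom e.symm.injective

/-- **`k ≥ 2`, `T` of 2-rank at least 4: impossible in `E₆(q)`, `²E₆(q)`, `F₄(q)`, `q` odd** -/
theorem Rk4.no {G : Type*} [Group G] [Finite G] (hG : InE6 G) {N : Subgroup G} {T : Type} [Group T]
    {k : ℕ} {e : N ≃* (Fin k → T)} (hT : Rk4 T) (hk : 2 ≤ k) : False := by
  obtain ⟨V, hV, hc⟩ := hT
  have h1 := pow_card_le hG e V hV
  have h2 : 16 ^ 2 ≤ Nat.card V ^ k := (Nat.pow_le_pow_left hc 2).trans (Nat.pow_le_pow_right (by omega) hk)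
  omega

theorem Rk4.eps_no {G : Type*} [Group G] [Finite G] (hG : InE6 G) {H N : Subgroup G} {T : Type} [Group T]
    {k : ℕ} {e : N ≃* (Fin k → T)} (_ : EPS H N e) (hT : Rk4 T) (hk : 2 ≤ k) : False :=
  Rk4.no (e := e) hG hT hk

section psl

variable {F : Type*} [Field F]

/-- the unipotent radical of the stabiliser of an `m`-space -/
def uPSL (m n : ℕ) : Multiplicative (Matrix (Fin m) (Fin n) F) →* Matrix.SpecialLinearGroup (Fin (m + n)) F :=
  MonoidHom.mk' (fun A => ⟨Matrix.reindex finSumFinEquiv finSumFinEquiv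
      (Matrix.fromBlocks 1 A.toAdd 0 1), by
    rw [Matrix.det_reindex_self, Matrix.det_fromBlocks_zero₂₁, Matrix.det_one, Matrix.det_one, one_mul]⟩) (by
    intro A B
    apply Subtype.ext
    have h : Matrix.reindex finSumFinEquiv finSumFinEquiv
        (Matrix.fromBlocks (1 : Matrix (Fin m) (Fin m) F) (A * B).toAdd 0 (1 : Matrix (Fin n) (Fin n) F)) =
        Matrix.reindex finSumFinEquiv finSumFinEquiv
          (Matrix.fromBlocks (1 : Matrix (Fin m) (Fin m) F) A.toAdd 0 (1 : Matrix (Fin n) (Fin n) F)) *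
        Matrix.reindex finSumFinEquiv finSumFinEquiv
          (Matrix.fromBlocks (1 : Matrix (Fin m) (Fin m) F) B.toAdd 0 (1 : Matrix (Fin n) (Fin n) F)) := by
      rw [Matrix.reindex_apply, Matrix.reindex_apply, Matrix.reindex_apply, Matrix.submatrix_mul_equiv,
        Matrix.fromBlocks_multiply]
      congr 1
      simp [add_comm]
    exact h)

theorem uPSL_ker {m n : ℕ} (A : Multiplicative (Matrix (Fin m) (Fin n) F))
    (h : uPSL m n A ∈ Subgroup.center (Matrix.SpecialLinearGroup (Fin (m + n)) F)) : A = 1 := by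
  obtain ⟨r, -, hr⟩ := Matrix.SpecialLinearGroup.mem_center_iff.1 h
  apply Multiplicative.toAdd.injective
  show A.toAdd = 0
  ext i j
  have h1 := congrFun (congrFun hr (finSumFinEquiv (Sum.inl i))) (finSumFinEquiv (Sum.inr j))
  have h2 : (uPSL m n A : Matrix (Fin (m + n)) (Fin (m + n)) F) (finSumFinEquiv (Sum.inl i))
      (finSumFinEquiv (Sum.inr j)) = A.toAdd i j := by
    show Matrix.reindex finSumFinEquiv finSumFinEquiv (Matrix.fromBlocks 1 A.toAdd 0 1) _ _ = _
    rw [Matrix.reindex_apply, Matrix.submatrix_apply, Equiv.symm_apply_apply, Equiv.symm_apply_apply,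
      Matrix.fromBlocks_apply₁₂]
  rw [h2, Matrix.scalar_apply, Matrix.diagonal_apply_ne] at h1
  · exact h1.symm
  · intro he
    have := finSumFinEquiv.injective he
    simp at this

theorem card_mat (m n : ℕ) [Finite F] : Nat.card (Multiplicative (Matrix (Fin m) (Fin n) F)) = Nat.card F ^ (n * m) := by
  show Nat.card (Fin m → Fin n → F) = _
  have h3 : Nat.card (Fin n → F) = Nat.card F ^ n := by rw [Nat.card_pi]; simp
  rw [Nat.card_pi]
  simp only [h3, Finset.prod_const, Finset.card_univ, Fintype.card_fin]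
  rw [← pow_mul]

theorem add_self_mat [CharP F 2] {m n : Type*} (a : Multiplicative (Matrix m n F)) : a * a = 1 := by
  apply Multiplicative.toAdd.injective
  show a.toAdd + a.toAdd = 0
  ext i j
  exact CharTwo.add_self_eq_zero _

/-- **`PSL_(m+n)(q')`, `q'` even** -/
theorem rk4_psl [Finite F] [CharP F 2] (m n : ℕ) (h : 16 ≤ Nat.card F ^ (n * m)) :
    Rk4 (Matrix.ProjectiveSpecialLinearGroup (Fin (m + n)) F) := by
  refine Rk4.of_hom (A := Multiplicative (Matrix (Fin m) (Fin n) F)) add_self_mat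
    ((QuotientGroup.mk' _).comp (uPSL m n)) ?_ ?_
  · rw [injective_iff_map_eq_one]
    intro A hA
    exact uPSL_ker A ((QuotientGroup.eq_one_iff _).1 hA)
  · rwa [card_mat]

/-- `L₃(q')`, `q' ≥ 4` even -/
theorem rk4_psl3 [Finite F] [CharP F 2] (h : 4 ≤ Nat.card F) :
    Rk4 (Matrix.ProjectiveSpecialLinearGroup (Fin 3) F) := rk4_psl 2 1 (by
  calc 16 = 4 ^ 2 := by norm_num
    _ ≤ _ := Nat.pow_le_pow_left h 2)

/-- `L₄(q')`, `q'` even -/
theorem rk4_psl4 [Finite F] [CharP F 2] :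
    Rk4 (Matrix.ProjectiveSpecialLinearGroup (Fin 4) F) := rk4_psl 2 2 (by
  calc 16 = 2 ^ 4 := by norm_num
    _ ≤ _ := Nat.pow_le_pow_left (Finite.one_lt_card : 1 < Nat.card F) 4)

end psl

section psp

variable {F : Type*} [Field F] {m : ℕ}

theorem mem_up (S : Matrix (Fin m) (Fin m) F) (hS : Sᵀ = S) :
    Matrix.fromBlocks 1 S 0 1 ∈ Matrix.symplecticGroup (Fin m) F := by
  rw [SymplecticGroup.mem_iff, Matrix.J, Matrix.fromBlocks_transpose, Matrix.fromBlocks_multiply,
    Matrix.fromBlocks_multiply]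
  simp [hS]

theorem mem_lo (S : Matrix (Fin m) (Fin m) F) (hS : Sᵀ = S) :
    Matrix.fromBlocks 1 0 S 1 ∈ Matrix.symplecticGroup (Fin m) F := by
  rw [SymplecticGroup.mem_iff, Matrix.J, Matrix.fromBlocks_transpose, Matrix.fromBlocks_multiply,
    Matrix.fromBlocks_multiply]
  simp [hS]

/-- the symmetric matrices -/
def symS (m : ℕ) (F : Type*) [Field F] : AddSubgroup (Matrix (Fin m) (Fin m) F) where
  carrier := {S | Sᵀ = S}
  zero_mem' := by simp
  add_mem' := by
    intro a b ha hb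
    simp only [Set.mem_ofPred_eq] at *
    rw [Matrix.transpose_add, ha, hb]
  neg_mem' := by
    intro a ha
    simp only [Set.mem_ofPred_eq] at *
    rw [Matrix.transpose_neg, ha]

theorem mul_up (A B : Matrix (Fin m) (Fin m) F) :
    (Matrix.fromBlocks 1 (A + B) 0 1 : Matrix (Fin m ⊕ Fin m) (Fin m ⊕ Fin m) F) =
      (Matrix.fromBlocks 1 A 0 1 : Matrix (Fin m ⊕ Fin m) (Fin m ⊕ Fin m) F) *
        (Matrix.fromBlocks 1 B 0 1 : Matrix (Fin m ⊕ Fin m) (Fin m ⊕ Fin m) F) := by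
  rw [Matrix.fromBlocks_multiply]
  congr 1 <;> simp [add_comm]

theorem zero_of_comm (A : Matrix (Fin m) (Fin m) F)
    (h : (Matrix.fromBlocks 1 0 1 1 : Matrix (Fin m ⊕ Fin m) (Fin m ⊕ Fin m) F) *
      (Matrix.fromBlocks 1 A 0 1 : Matrix (Fin m ⊕ Fin m) (Fin m ⊕ Fin m) F) =
      (Matrix.fromBlocks 1 A 0 1 : Matrix (Fin m ⊕ Fin m) (Fin m ⊕ Fin m) F) *
      (Matrix.fromBlocks 1 0 1 1 : Matrix (Fin m ⊕ Fin m) (Fin m ⊕ Fin m) F)) : A = 0 := by
  rw [Matrix.fromBlocks_multiply, Matrix.fromBlocks_multiply, Matrix.fromBlocks_inj] at h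
  simpa using h.1.symm

/-- the unipotent radical of the stabiliser of a maximal isotropic space -/
def uPSp (m : ℕ) : Multiplicative (symS m F) →* Matrix.symplecticGroup (Fin m) F :=
  MonoidHom.mk' (fun A => ⟨Matrix.fromBlocks 1 (A.toAdd : Matrix (Fin m) (Fin m) F) 0 1, mem_up _ A.toAdd.2⟩) (by
    intro A B
    apply Subtype.ext
    exact mul_up _ _)

theorem uPSp_ker {m : ℕ} (A : Multiplicative (symS m F))
    (h : uPSp m A ∈ Subgroup.center (Matrix.symplecticGroup (Fin m) F)) : A = 1 := by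
  have h1 := Subgroup.mem_center_iff.1 h ⟨_, mem_lo (1 : Matrix (Fin m) (Fin m) F) (by simp)⟩
  apply Multiplicative.toAdd.injective
  apply Subtype.ext
  exact zero_of_comm _ (congrArg Subtype.val h1)

/-- there are at least `2 ^ 6` symmetric `3 × 3` matrices -/
theorem card_symS [Finite F] (hm : 3 ≤ m) : 64 ≤ Nat.card (Multiplicative (symS m F)) := by
  have : Finite (Matrix (Fin m) (Fin m) F) := inferInstance
  -- diagonal matrices and the three off-diagonal entries
  let f : (Fin 6 → F) → symS m F := fun a => ⟨Matrix.of fun i j : Fin m =>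
      if i.1 = 0 ∧ j.1 = 0 then a 0 else if i.1 = 1 ∧ j.1 = 1 then a 1 else if i.1 = 2 ∧ j.1 = 2 then a 2 else
      if (i.1 = 0 ∧ j.1 = 1) ∨ (i.1 = 1 ∧ j.1 = 0) then a 3 else
      if (i.1 = 0 ∧ j.1 = 2) ∨ (i.1 = 2 ∧ j.1 = 0) then a 4 else
      if (i.1 = 1 ∧ j.1 = 2) ∨ (i.1 = 2 ∧ j.1 = 1) then a 5 else 0, by
    show Matrix.transpose _ = _
    ext i j
    simp only [Matrix.transpose_apply, Matrix.of_apply]
    simp only [and_comm (a := j.1 = 0) (b := i.1 = 0), and_comm (a := j.1 = 1) (b := i.1 = 1),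
      and_comm (a := j.1 = 2) (b := i.1 = 2), and_comm (a := j.1 = 0) (b := i.1 = 1),
      and_comm (a := j.1 = 1) (b := i.1 = 0), and_comm (a := j.1 = 0) (b := i.1 = 2),
      and_comm (a := j.1 = 2) (b := i.1 = 0), and_comm (a := j.1 = 1) (b := i.1 = 2),
      and_comm (a := j.1 = 2) (b := i.1 = 1), or_comm (a := i.1 = 1 ∧ j.1 = 0), or_comm (a := i.1 = 2 ∧ j.1 = 0),
      or_comm (a := i.1 = 2 ∧ j.1 = 1)]⟩
  have hf : Function.Injective f := by
    intro a b hab
    have h1 : ∀ i j : Fin m, (f a : Matrix (Fin m) (Fin m) F) i j = (f b : Matrix (Fin m) (Fin m) F) i j := by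
      intro i j
      rw [hab]
    have e0 := h1 ⟨0, by omega⟩ ⟨0, by omega⟩
    have e1 := h1 ⟨1, by omega⟩ ⟨1, by omega⟩
    have e2 := h1 ⟨2, by omega⟩ ⟨2, by omega⟩
    have e3 := h1 ⟨0, by omega⟩ ⟨1, by omega⟩
    have e4 := h1 ⟨0, by omega⟩ ⟨2, by omega⟩
    have e5 := h1 ⟨1, by omega⟩ ⟨2, by omega⟩
    simp [f] at e0 e1 e2 e3 e4 e5
    funext i
    fin_cases i
    · exact e0
    · exact e1
    · exact e2
    · exact e3
    · exact e4
    · exact e5
  have h2 : Nat.card (Fin 6 → F) ≤ Nat.card (symS m F) := Nat.card_le_card_of_injective f hf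
  have h3 : Nat.card (Fin 6 → F) = Nat.card F ^ 6 := by rw [Nat.card_pi]; simp
  have h4 : 2 ^ 6 ≤ Nat.card F ^ 6 := Nat.pow_le_pow_left (Finite.one_lt_card : 1 < Nat.card F) 6
  show 64 ≤ Nat.card (symS m F)
  omega

/-- **`PSp_(2m)(q')`, `q'` even, `m ≥ 3`** -/
theorem rk4_psp [Finite F] [CharP F 2] (hm : 3 ≤ m) : Rk4 (PSp m F) := by
  refine Rk4.of_hom (A := Multiplicative (symS m F)) ?_ ((QuotientGroup.mk' _).comp (uPSp m)) ?_ ?_
  · intro a
    apply Multiplicative.toAdd.injective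
    apply Subtype.ext
    show (a.toAdd : Matrix (Fin m) (Fin m) F) + a.toAdd = 0
    ext i j
    exact CharTwo.add_self_eq_zero _
  · rw [injective_iff_map_eq_one]
    intro A hA
    exact uPSp_ker A ((QuotientGroup.eq_one_iff _).1 hA)
  · have := card_symS (F := F) hm
    omega

end psp

end Cfsg.Agent.H783.EX
end

-- part: H894/EK/Own
section
set_option linter.all false
open scoped Cfsg.Agent.FastGrp

-- part: H783/EX/RkAlt
section
/-!
# S5745, `k ≥ 2`, odd characteristic: `A_n`, `n ≥ 8`, and `M₂₂` have 2-rank at least 4 (helper783)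
-/

set_option autoImplicit false

namespace Cfsg.Agent.H783.EX

open Cfsg

/-! ### `A_n`, `n ≥ 8` -/

open Cfsg.Agent.GH.LowRank in
theorem rk4_alt8 : Rk4 (alternatingGroup (Fin 8)) := by
  let f : E4 →* alternatingGroup (Fin 8) := MonoidHom.mk'
    (fun e => ⟨pE e, Equiv.Perm.mem_alternatingGroup.2 (pE_sign _ _ _ _)⟩) (by
      intro x y
      apply Subtype.ext
      exact pE_mul _ _ _ _ _ _ _ _)
  refine Rk4.of_hom (A := E4) ?_ f ?_ ?_
  · intro e
    have h2 : ∀ a : ZMod 2, a + a = 0 := by decide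
    apply Multiplicative.toAdd.injective
    change Multiplicative.toAdd e + Multiplicative.toAdd e = 0
    exact Prod.ext (h2 _) (Prod.ext (h2 _) (Prod.ext (h2 _) (h2 _)))
  · rw [injective_iff_map_eq_one]
    intro e he
    obtain ⟨h1, h2, h3, h4⟩ := pE_one _ _ _ _ (congrArg Subtype.val he)
    exact Multiplicative.toAdd.injective
      (Prod.ext h1 (Prod.ext h2 (Prod.ext h3 h4)))
  · rw [Nat.card_eq_fintype_card]
    exact le_of_eq (by rfl)

/-- **`A_n`, `n ≥ 8`** -/
theorem rk4_alt {n : ℕ} (hn : 8 ≤ n) : Rk4 (alternatingGroup (Fin n)) := by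
  obtain ⟨f, hf⟩ := Cfsg.Agent.GH.LowRank.exists_alt_hom hn
  exact rk4_alt8.mono f hf

/-! ### Four involutions -/

/-- `x ↦ a ^ x` -/
def pw {T : Type*} [Group T] (a : T) (x : ZMod 2) : T := if x = 0 then 1 else a

theorem pw_add {T : Type*} [Group T] {a : T} (ha : a * a = 1) (x y : ZMod 2) : pw a (x + y) = pw a x * pw a y := by
  unfold pw
  have h : ∀ x y : ZMod 2, (x = 0 ∧ y = 0 ∧ x + y = 0) ∨ (x = 0 ∧ y ≠ 0 ∧ x + y ≠ 0) ∨ (x ≠ 0 ∧ y = 0 ∧ x + y ≠ 0) ∨
    (x ≠ 0 ∧ y ≠ 0 ∧ x + y = 0) := by decide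
  rcases h x y with ⟨h1, h2, h3⟩ | ⟨h1, h2, h3⟩ | ⟨h1, h2, h3⟩ | ⟨h1, h2, h3⟩
  · rw [if_pos h1, if_pos h2, if_pos h3, one_mul]
  · rw [if_pos h1, if_neg h2, if_neg h3, one_mul]
  · rw [if_neg h1, if_pos h2, if_neg h3, mul_one]
  · rw [if_neg h1, if_neg h2, if_pos h3, ha]

theorem pw_comm {T : Type*} [Group T] {a b : T} (h : a * b = b * a) (x y : ZMod 2) : Commute (pw a x) (pw b y) := by
  unfold pw
  split_ifs
  · exact Commute.one_left _
  · exact Commute.one_left _
  · exact Commute.one_right _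
  · exact h

theorem Rk4.of_four {T : Type*} [Group T] {a b c d : T} (ha : a * a = 1) (hb : b * b = 1) (hc : c * c = 1)
    (hd : d * d = 1) (hab : a * b = b * a) (hac : a * c = c * a) (had : a * d = d * a) (hbc : b * c = c * b)
    (hbd : b * d = d * b) (hcd : c * d = d * c)
    (ind : ∀ x y z w : ZMod 2, pw a x * (pw b y * (pw c z * pw d w)) = 1 → x = 0 ∧ y = 0 ∧ z = 0 ∧ w = 0) : Rk4 T := by
  let f : Multiplicative (ZMod 2 × ZMod 2 × ZMod 2 × ZMod 2) →* T := MonoidHom.mk'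
    (fun e => pw a e.toAdd.1 * (pw b e.toAdd.2.1 * (pw c e.toAdd.2.2.1 * pw d e.toAdd.2.2.2))) (by
      rintro x y
      show pw a (x.toAdd.1 + y.toAdd.1) * (pw b (x.toAdd.2.1 + y.toAdd.2.1) * (pw c (x.toAdd.2.2.1 + y.toAdd.2.2.1) *
        pw d (x.toAdd.2.2.2 + y.toAdd.2.2.2))) = _
      rw [pw_add ha, pw_add hb, pw_add hc, pw_add hd]
      generalize x.toAdd.1 = x1
      generalize x.toAdd.2.1 = x2
      generalize x.toAdd.2.2.1 = x3
      generalize x.toAdd.2.2.2 = x4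
      generalize y.toAdd.1 = y1
      generalize y.toAdd.2.1 = y2
      generalize y.toAdd.2.2.1 = y3
      generalize y.toAdd.2.2.2 = y4
      have e1 : pw c x3 * pw c y3 * (pw d x4 * pw d y4) = pw c x3 * pw d x4 * (pw c y3 * pw d y4) :=
        (pw_comm hcd y3 x4).mul_mul_mul_comm _ _
      have e2 : pw b x2 * pw b y2 * (pw c x3 * pw d x4 * (pw c y3 * pw d y4)) =
          pw b x2 * (pw c x3 * pw d x4) * (pw b y2 * (pw c y3 * pw d y4)) :=
        ((pw_comm hbc y2 x3).mul_right (pw_comm hbd y2 x4)).mul_mul_mul_comm _ _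
      have e3 : pw a x1 * pw a y1 * (pw b x2 * (pw c x3 * pw d x4) * (pw b y2 * (pw c y3 * pw d y4))) =
          pw a x1 * (pw b x2 * (pw c x3 * pw d x4)) * (pw a y1 * (pw b y2 * (pw c y3 * pw d y4))) :=
        ((pw_comm hab y1 x2).mul_right ((pw_comm hac y1 x3).mul_right (pw_comm had y1 x4))).mul_mul_mul_comm _ _
      rw [e1, e2, e3])
  refine Rk4.of_hom (A := Multiplicative (ZMod 2 × ZMod 2 × ZMod 2 × ZMod 2)) ?_ f ?_ ?_
  · intro e
    have h2 : ∀ a : ZMod 2, a + a = 0 := by decide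
    apply Multiplicative.toAdd.injective
    change Multiplicative.toAdd e + Multiplicative.toAdd e = 0
    exact Prod.ext (h2 _) (Prod.ext (h2 _) (Prod.ext (h2 _) (h2 _)))
  · rw [injective_iff_map_eq_one]
    intro e he
    obtain ⟨h1, h2, h3, h4⟩ := ind _ _ _ _ he
    exact Multiplicative.toAdd.injective
      (Prod.ext h1 (Prod.ext h2 (Prod.ext h3 h4)))
  · rw [Nat.card_eq_fintype_card]
    exact le_of_eq (by rfl)

/-! ### `M₂₂` -/

open Cfsg.Agent.GH.LowRankMathieu Cfsg.Agent.J4Type.CocodeMask Cfsg.Agent.SporadicA.GolayPerm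
  Cfsg.Agent.SporadicA.GolayBase in
theorem rk4_M22 : Rk4 Spor.M22 := by
  refine Rk4.of_four (a := gA) (b := gB) (c := gC) (d := gD)
    (tA.sq (by decide +kernel)) (tB.sq (by decide +kernel)) (tC.sq (by decide +kernel)) (tD.sq (by decide +kernel))
    (tA.comm tB (by decide +kernel)) (tA.comm tC (by decide +kernel)) (tA.comm tD (by decide +kernel))
    (tB.comm tC (by decide +kernel)) (tB.comm tD (by decide +kernel)) (tC.comm tD (by decide +kernel)) ?_
  intro x y z w h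
  have h1 := (isT_ite tA x).mul ((isT_ite tB y).mul ((isT_ite tC z).mul (isT_ite tD w)))
  have h0 : (if x = 0 then 1 else gA) * ((if y = 0 then 1 else gB) * ((if z = 0 then 1 else gC) *
      (if w = 0 then 1 else gD))) = (1 : Spor.M22) := h
  rw [h0] at h1
  have h2 := h1 (some 1)
  apply indep x y z w
  have e : idx (some 1 : GolayPt) = 1 := by decide +kernel
  rw [e] at h2
  rw [← h2]
  exact e

/-- **`M₂₂`** -/
theorem rk4_isoM22 {T : Type*} [Group T] (h : Spor.IsoM22 T) : Rk4 T := by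
  obtain ⟨e⟩ := h
  exact rk4_M22.congr e

end Cfsg.Agent.H783.EX
end

-- part: H894/EK/RkJ2
section
/-!
# `J₂` contains an elementary abelian group of order 16 (S5745, CrossK; helper894)
-/

set_option autoImplicit false
set_option maxRecDepth 100000

namespace Cfsg.Agent.H894.EK.RkJ2

open Subgroup Equiv Cfsg.Agent.SporadicA.PermTab Cfsg.Agent.SporadicA.J2Data Cfsg.Agent.SporadicA.J2Hundred
open Cfsg.Agent.H348.Inv.PermW Cfsg.Agent.H348.Inv.J2 Cfsg.Agent.H587.NR Cfsg.Agent.H783.EX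

section four

variable {G : Type*} [Group G]

/-- the homomorphism from the group of order two to an involution -/
def ph (g : G) (h : g * g = 1) : Multiplicative (ZMod 2) →* G where
  toFun x := g ^ x.toAdd.val
  map_one' := by
    show g ^ (0 : ZMod 2).val = 1
    rw [ZMod.val_zero, pow_zero]
  map_mul' a b := by
    have key : ∀ a b : ZMod 2, g ^ (a + b).val = g ^ a.val * g ^ b.val := by
      intro a b
      have h0 : ∀ a : ZMod 2, a = 0 ∨ a = 1 := by decide
      rcases h0 a with rfl | rfl <;> rcases h0 b with rfl | rfl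
      · show g ^ 0 = g ^ 0 * g ^ 0
        simp
      · show g ^ 1 = g ^ 0 * g ^ 1
        simp
      · show g ^ 1 = g ^ 1 * g ^ 0
        simp
      · show g ^ 0 = g ^ 1 * g ^ 1
        simp [h]
    exact key _ _

theorem ph_apply (g : G) (h : g * g = 1) (x : Multiplicative (ZMod 2)) : ph g h x = g ^ x.toAdd.val := rfl

theorem comm_ph {g g' : G} (h : g * g = 1) (h' : g' * g' = 1) (hc : g * g' = g' * g) (x y : Multiplicative (ZMod 2)) :
    Commute (ph g h x) (ph g' h' y) := by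
  rw [ph_apply, ph_apply]
  exact Commute.pow_pow hc _ _

/-- four commuting involutions with 15 nontrivial products -/
theorem rk4_of_four (a b c d : G) (ha : a * a = 1) (hb : b * b = 1) (hc : c * c = 1) (hd : d * d = 1)
    (hab : a * b = b * a) (hac : a * c = c * a) (had : a * d = d * a) (hbc : b * c = c * b) (hbd : b * d = d * b)
    (hcd : c * d = d * c)
    (hn : ∀ i j k l : ℕ, i < 2 → j < 2 → k < 2 → l < 2 → a ^ i * (b ^ j * (c ^ k * d ^ l)) = 1 →
      i = 0 ∧ j = 0 ∧ k = 0 ∧ l = 0) : Rk4 G := by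
  let f3 := MonoidHom.noncommCoprod (ph c hc) (ph d hd) (comm_ph hc hd hcd)
  let f2 := MonoidHom.noncommCoprod (ph b hb) f3 (fun x y => (comm_ph hb hc hbc x y.1).mul_right (comm_ph hb hd hbd x y.2))
  let f1 := MonoidHom.noncommCoprod (ph a ha) f2 (fun x y => (comm_ph ha hb hab x y.1).mul_right
    ((comm_ph ha hc hac x y.2.1).mul_right (comm_ph ha hd had x y.2.2)))
  have hinj : Function.Injective f1 := by
    rw [injective_iff_map_eq_one]
    rintro ⟨i, j, k, l⟩ h
    have h1 : a ^ i.toAdd.val * (b ^ j.toAdd.val * (c ^ k.toAdd.val * d ^ l.toAdd.val)) = 1 := h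
    obtain ⟨e1, e2, e3, e4⟩ := hn _ _ _ _ (ZMod.val_lt _) (ZMod.val_lt _) (ZMod.val_lt _) (ZMod.val_lt _) h1
    have key : ∀ x : Multiplicative (ZMod 2), x.toAdd.val = 0 → x = 1 := by
      intro x hx
      exact Multiplicative.toAdd.injective ((ZMod.val_eq_zero _).1 hx)
    rw [key i e1, key j e2, key k e3, key l e4]
    rfl
  refine Rk4.of_hom (fun x => ?_) f1 hinj ?_
  · have key : ∀ x : Multiplicative (ZMod 2), x * x = 1 := by decide
    obtain ⟨i, j, k, l⟩ := x
    rw [Prod.mk_mul_mk, Prod.mk_mul_mk, Prod.mk_mul_mk, key, key, key, key]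
    rfl
  · rw [Nat.card_prod, Nat.card_prod, Nat.card_prod, Nat.card_congr Multiplicative.toAdd, Nat.card_zmod]

end four

theorem chk_of_eq {v w : List L} (h : W.wd v = W.wd w) : chk 100 T v w = true := by
  unfold chk
  rw [allB_iff]
  intro i hi
  have h1 := W.wd_apply v ⟨i, hi⟩
  have h2 := W.wd_apply w ⟨i, hi⟩
  rw [h] at h1
  rw [show act T v i = act T w i from h1.symm.trans h2]
  exact Nat.beq_refl _

def A : List L := [.a]
def B : List L := [.c]
def C : List L := [.d, .e, .c, .d, .c, .e, .d]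
def D : List L := [.b, .c, .d, .e, .a, .b, .a, .b, .c, .d, .c, .b, .a, .b, .a, .e, .d, .c, .b]

theorem ne_chk : ((List.range 2).all fun i => (List.range 2).all fun j => (List.range 2).all fun k => (List.range 2).all fun l =>
    (i == 0 && j == 0 && k == 0 && l == 0) || !(chk 100 T (pw A i ++ (pw B j ++ (pw C k ++ pw D l))) [])) = true := by
  decide +kernel

theorem eq_of {v w : List L} (h : chk 100 T v w = true) : W.wd v = W.wd w := W.eq_of_chk h

theorem sq_of {v : List L} (h : chk 100 T (v ++ v) [] = true) : W.wd v * W.wd v = 1 := by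
  rw [← W.wd_append, eq_of h, W.wd_nil]

theorem comm_of {v w : List L} (h : chk 100 T (v ++ w) (w ++ v) = true) : W.wd v * W.wd w = W.wd w * W.wd v := by
  rw [← W.wd_append, eq_of h, W.wd_append]

theorem rk4_G : Rk4 G := by
  refine rk4_of_four (W.wd A) (W.wd B) (W.wd C) (W.wd D) (sq_of (by decide +kernel)) (sq_of (by decide +kernel))
    (sq_of (by decide +kernel)) (sq_of (by decide +kernel)) (comm_of (by decide +kernel)) (comm_of (by decide +kernel))
    (comm_of (by decide +kernel)) (comm_of (by decide +kernel)) (comm_of (by decide +kernel)) (comm_of (by decide +kernel)) ?_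
  intro i j k l hi hj hk hl h
  rw [← W.wd_pw, ← W.wd_pw, ← W.wd_pw, ← W.wd_pw, ← W.wd_append, ← W.wd_append, ← W.wd_append, ← W.wd_nil] at h
  have h1 := chk_of_eq h
  have h2 := ne_chk
  rw [List.all_eq_true] at h2
  have h3 := h2 i (List.mem_range.2 hi)
  rw [List.all_eq_true] at h3
  have h4 := h3 j (List.mem_range.2 hj)
  rw [List.all_eq_true] at h4
  have h5 := h4 k (List.mem_range.2 hk)
  rw [List.all_eq_true] at h5
  have h6 := h5 l (List.mem_range.2 hl)
  rw [h1] at h6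
  simpa [and_assoc] using h6

theorem isoG : Cfsg.Spor.IsoJ2 G := by
  obtain ⟨f⟩ := Cfsg.Agent.J2.HundredGens.J2_iso Cfsg.Agent.S1619.result.2.2.2
  exact ⟨f.symm⟩

/-- **`J₂` has 2-rank at least four** -/
theorem rk4_j2 {T : Type*} [Group T] (h : Cfsg.Spor.IsoJ2 T) : Rk4 T := by
  obtain ⟨e⟩ := h
  obtain ⟨f⟩ := isoG
  exact Rk4.congr (e.trans f.symm) rk4_G

end Cfsg.Agent.H894.EK.RkJ2
end

-- part: H894/EK/Own
section
/-!
# S5745, CrossK: names of small groups that are of Lie type in the own characteristic; names of 2-rank `≥ 4` (helper894)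
-/

set_option autoImplicit false

namespace Cfsg.Agent.H894.EK

open Cfsg Cfsg.Agent.OrdDiv Cfsg.Agent.H902 Cfsg.Agent.H902.Names
open Cfsg.Agent.H209.EPX Cfsg.Agent.H542.EPX Cfsg.Agent.H783.EX Cfsg.Agent.H357.EP

variable {T : Type} [Group T]

/-! ### inversion of names -/

theorem inv_L {n l a : ℕ} (h : NmL (.L n) l a T) : OrdDiv.Real (.psl n (l ^ a)) T := by
  obtain ⟨g, hg, hT⟩ := h
  cases hg
  exact hT

theorem inv_U {n l a : ℕ} (h : NmL (.U n) l a T) : OrdDiv.Real (.psu n (l ^ a)) T := by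
  obtain ⟨g, hg, hT⟩ := h
  cases hg
  exact hT

theorem inv_C {n l a : ℕ} (h : NmL (.C n) l a T) (ho : ¬ (3 ≤ n ∧ Odd (l ^ a))) : OrdDiv.Real (.psp n (l ^ a)) T := by
  obtain ⟨g, hg, hT⟩ := h
  cases hg with
  | psp => exact hT
  | oodd _ _ _ h1 h2 => exact absurd ⟨h1, h2⟩ ho

theorem inv_Sz {l a : ℕ} (h : NmL .Sz l a T) : OrdDiv.Real (.sz (l ^ a)) T := by
  obtain ⟨g, hg, hT⟩ := h
  cases hg
  exact hT

/-! ### own characteristic -/

theorem own_a5 (h : OrdDiv.Real (.alt 5) T) : IsLieTypeChar 2 T := by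
  obtain ⟨e⟩ := h
  have : Fact (Nat.Prime 2) := ⟨Nat.prime_two⟩
  have : CharP (GaloisField 2 2) 2 := inferInstance
  letI : Fintype (GaloisField 2 2) := Fintype.ofFinite _
  have hc : Fintype.card (GaloisField 2 2) = 4 := by
    rw [← Nat.card_eq_fintype_card, GaloisField.card 2 2 (by norm_num)]; norm_num
  obtain ⟨f⟩ := S0252.result hc
  exact Or.inl ⟨GaloisField 2 2, inferInstance, inferInstance, inferInstance, 2, le_rfl, fun _ => hc.ge, ⟨e.trans f.symm⟩⟩

theorem own_l25 (h : OrdDiv.Real (.psl 2 5) T) : IsLieTypeChar 2 T := by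
  obtain ⟨F, _, _, hF, ⟨e⟩⟩ := h
  obtain ⟨f⟩ := S0253.result hF
  exact own_a5 ⟨e.trans f⟩

theorem own_a8 (h : OrdDiv.Real (.alt 8) T) : IsLieTypeChar 2 T := by
  obtain ⟨e⟩ := h
  have : Fact (Nat.Prime 2) := ⟨Nat.prime_two⟩
  obtain ⟨f⟩ := S0256.result (F := ZMod 2) (ZMod.card 2)
  exact Or.inl ⟨ZMod 2, inferInstance, inferInstance, inferInstance, 4, by norm_num, fun h => absurd h (by norm_num),
    ⟨e.trans f.symm⟩⟩

theorem own_l27 (h : OrdDiv.Real (.psl 2 7) T) : IsLieTypeChar 2 T := by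
  obtain ⟨F, _, _, hF, ⟨e⟩⟩ := h
  have : Fact (Nat.Prime 2) := ⟨Nat.prime_two⟩
  obtain ⟨f⟩ := S0255.result (F := F) (K := ZMod 2) hF (ZMod.card 2)
  exact Or.inl ⟨ZMod 2, inferInstance, inferInstance, inferInstance, 3, by norm_num, fun h => absurd h (by norm_num),
    ⟨e.trans f⟩⟩

theorem own_u42 (h : OrdDiv.Real (.psu 4 2) T) : IsLieTypeChar 3 T := by
  obtain ⟨F, _, _, hF, ⟨e⟩⟩ := h
  have : Fact (Nat.Prime 3) := ⟨Nat.prime_three⟩
  obtain ⟨f⟩ := S0822.result (F := F) (K := ZMod 3) hF (ZMod.card 3)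
  exact Or.inr (Or.inl ⟨ZMod 3, inferInstance, inferInstance, inferInstance, 2, le_rfl,
    fun _ => by rw [ZMod.card], ⟨e.trans f⟩⟩)

theorem own_sp43 (h : OrdDiv.Real (.psp 2 3) T) : IsLieTypeChar 2 T := by
  obtain ⟨K, _, _, hK, ⟨e⟩⟩ := h
  have : Fact (Nat.Prime 2) := ⟨Nat.prime_two⟩
  letI : Fintype (GaloisField 2 2) := Fintype.ofFinite _
  have hc : Fintype.card (GaloisField 2 2) = 4 := by
    rw [← Nat.card_eq_fintype_card, GaloisField.card 2 2 (by norm_num)]; norm_num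
  obtain ⟨f⟩ := S0822.result (F := GaloisField 2 2) (K := K) hc hK
  exact Or.inr (Or.inr (Or.inl ⟨GaloisField 2 2, inferInstance, inferInstance, inferInstance, 4, 2, hc, by norm_num,
    by norm_num, ⟨e.trans f.symm⟩⟩))

/-- `L₂(9) ≅ A₆` -/
theorem a6_of_l29 (h : OrdDiv.Real (.psl 2 9) T) : OrdDiv.Real (.alt 6) T := by
  obtain ⟨F, _, _, hF, ⟨e⟩⟩ := h
  obtain ⟨f⟩ := S0254.result hF
  exact ⟨e.trans f⟩

/-! ### 2-rank at least 4 -/

theorem rk4_l34 (h : OrdDiv.Real (.psl 3 4) T) : Rk4 T := by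
  obtain ⟨F, _, _, hF, ⟨e⟩⟩ := h
  have : Fact (Nat.Prime 2) := ⟨Nat.prime_two⟩
  have : CharP F 2 := charP_of_card_eq_prime_pow (f := 2) (by rw [hF]; norm_num)
  exact (rk4_psl3 (by rw [Nat.card_eq_fintype_card, hF])).congr e

theorem rk4_l42 (h : OrdDiv.Real (.psl 4 2) T) : Rk4 T := by
  obtain ⟨F, _, _, hF, ⟨e⟩⟩ := h
  have : Fact (Nat.Prime 2) := ⟨Nat.prime_two⟩
  have : CharP F 2 := charP_of_card_eq_prime_pow (f := 1) (by rw [hF, pow_one])
  exact rk4_psl4.congr e

theorem rk4_sp62 (h : OrdDiv.Real (.psp 3 2) T) : Rk4 T := by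
  obtain ⟨F, _, _, hF, ⟨e⟩⟩ := h
  have : Fact (Nat.Prime 2) := ⟨Nat.prime_two⟩
  have : CharP F 2 := charP_of_card_eq_prime_pow (f := 1) (by rw [hF, pow_one])
  exact (rk4_psp le_rfl).congr e

theorem rk4_altN {n : ℕ} (hn : 8 ≤ n) (h : OrdDiv.Real (.alt n) T) : Rk4 T := by
  obtain ⟨e⟩ := h
  exact (rk4_alt hn).congr e

/-- sporadic groups from the order -/
theorem spor_name {x : Grp × ℕ} (hx : x ∈ spor) (hK : IsKnownSimple' T) (hna : ¬ ∀ a b : T, a * b = b * a)
    (hc : Nat.card T = x.2) : OrdDiv.Real x.1 T := spor_real table hK hna hx hc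

/-- a row killed by the 2-rank -/
theorem row_rk4 {P : ∀ (T : Type) [Group T], Prop} {p : ℕ} {G : Type} [Group G] [Finite G] (hG : InE6 G) {k : ℕ}
    (hk : 2 ≤ k) (hP : ∀ (T : Type) [Group T], P T → Rk4 T) : RowX P p G k :=
  fun _ _ T _ _ h hT _ => Rk4.eps_no hG h (hP T hT) hk

/-- a row killed by the own characteristic -/
theorem row_own {P : ∀ (T : Type) [Group T], Prop} {p : ℕ} {G : Type} [Group G] {k : ℕ}
    (hP : ∀ (T : Type) [Group T], P T → IsLieTypeChar p T) : RowX P p G k :=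
  fun _ _ T _ _ _ hT hL => hL (hP T hT)

theorem row_of {P Q : ∀ (T : Type) [Group T], Prop} {p : ℕ} {G : Type} [Group G] {k : ℕ} (h : Row Q G k)
    (hP : ∀ (T : Type) [Group T], P T → Q T) : RowX P p G k :=
  fun H N T _ e hE hT _ => h H N T e hE (hP T hT)

end Cfsg.Agent.H894.EK
end
end
end
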